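import Groth.Agent.Desc19b.HensSp.RatPt
import Groth.Agent.HenselLib.SectionsLift
import Groth.Agent.HenselLib.Perm
import Groth.Agent.AlgSpLib.YonCoprod
import Groth.Agent.AlgSpLib.LocP
import Groth.Agent.AlgSpLib.EtLocalInst

/-!
Points of algebraic spaces over henselian local rings.
-/

set_option autoImplicit false

universe u

open CategoryTheory CategoryTheory.Limits AlgebraicGeometry Opposite
open AlgSp Groth.Agent.AlgSpLib IsLocalRing

noncomputable section

namespace Groth.Agent.Desc19b.HensSp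

set_option backward.isDefEq.respectTransparency.types false

variable {S : Scheme.{u}} {X : Sp S} {R : Type u} [CommRing R] [HenselianLocalRing R]
  {str : Spec (CommRingCat.of R) ⟶ S}

/-- the closed point of `Spec R` over `S` -/
abbrev clIncl (str : Spec (CommRingCat.of R) ⟶ S) :
    Over.mk (Spec.map (CommRingCat.ofHom (residue R)) ≫ str) ⟶ Over.mk str :=
  Over.homMk (Spec.map (CommRingCat.ofHom (residue R))) rfl

/-- sections of smooth schemes over henselian local rings through rational points -/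
theorem exists_section_over {W : Over S} (c : W ⟶ Over.mk str) (hc : Smooth c.left)
    (t : Over.mk (Spec.map (CommRingCat.ofHom (residue R)) ≫ str) ⟶ W) (ht : t ≫ c = clIncl str) :
    ∃ s : Over.mk str ⟶ W, s ≫ c = 𝟙 _ ∧ clIncl str ≫ s = t := by
  obtain ⟨s, hs1, hs2⟩ := HenselLib.SectionsLift.exists_section (f := c.left) t.left (congrArg (fun m => m.left) ht)
  refine ⟨Over.homMk s (by rw [← Over.w c, reassoc_of% hs1]), Over.OverMorphism.ext hs1,
    Over.OverMorphism.ext hs2⟩

/-- a point in an etale scheme over `X` lifts along henselian local rings -/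
theorem exists_chart_lift {V : Over S} (f : (yon S).obj V ⟶ X) (hf : RepWith @Etale f)
    (z : (yon S).obj (Over.mk str) ⟶ X)
    (v : Over.mk (Spec.map (CommRingCat.ofHom (residue R)) ≫ str) ⟶ V)
    (hv : (yon S).map v ≫ f = (yon S).map (clIncl str) ≫ z) :
    ∃ g : Over.mk str ⟶ V, clIncl str ≫ g = v ∧ (yon S).map g ≫ f = z := by
  obtain ⟨p, hp⟩ := (yon S).map_surjective (hf.1.fst z)
  let d := hf.1.snd z
  have sq : IsPullback ((yon S).map p) ((yon S).map d) f z := hp ▸ hf.1.isPullback z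
  have : Etale d.left := hf.property _ _ _ sq
  obtain ⟨t, ht⟩ := (yon S).map_surjective (sq.lift ((yon S).map v) ((yon S).map (clIncl str)) hv)
  have htp : t ≫ p = v := (yon S).map_injective (by rw [Functor.map_comp, ht, sq.lift_fst])
  have htd : t ≫ d = clIncl str := (yon S).map_injective (by rw [Functor.map_comp, ht, sq.lift_snd])
  obtain ⟨s, hs1, hs2⟩ := exists_section_over d inferInstance t htd
  refine ⟨s ≫ p, by rw [reassoc_of% hs2, htp], ?_⟩
  rw [Functor.map_comp, Category.assoc, sq.w, ← Functor.map_comp_assoc, hs1,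
    CategoryTheory.Functor.map_id, Category.id_comp]

/-- a henselian point factors through an etale affine scheme -/
theorem exists_affine_chart_point (hX : IsAlgSpace X) (z : (yon S).obj (Over.mk str) ⟶ X) :
    ∃ (Z : Over S) (p : (yon S).obj Z ⟶ X) (g : Over.mk str ⟶ Z),
      IsAffine Z.left ∧ RepWith @Etale p ∧ (yon S).map g ≫ p = z := by
  obtain ⟨ι, V, f, hV, hf, hlift⟩ := exists_rat_charts hX
  obtain ⟨i, v, hv⟩ := hlift _ _ ((yon S).map (clIncl str) ≫ z)
  obtain ⟨g, -, hg⟩ := exists_chart_lift (f i) (hf i) z v hv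
  exact ⟨V i, f i, g, hV i, hf i, hg⟩

/-- sections of smooth algebraic spaces over henselian local rings through rational points -/
theorem exists_space_section {P : Sp S} (hP : IsAlgSpace P) (g : P ⟶ (yon S).obj (Over.mk str))
    (hg : LocP @Smooth g)
    (x : (yon S).obj (Over.mk (Spec.map (CommRingCat.ofHom (residue R)) ≫ str)) ⟶ P)
    (hx : x ≫ g = (yon S).map (clIncl str)) :
    ∃ s : (yon S).obj (Over.mk str) ⟶ P, s ≫ g = 𝟙 _ ∧ (yon S).map (clIncl str) ≫ s = x := by
  obtain ⟨ι, V, f, -, hf, hlift⟩ := exists_rat_charts hP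
  obtain ⟨i, v, hv⟩ := hlift _ _ x
  obtain ⟨c, hc⟩ := (yon S).map_surjective (f i ≫ g)
  have hcs : Smooth c.left := (repWith_yon_map_iff @Smooth c).1 (hc ▸
    repWith_comp_of_locP etLocal_smooth (IsAlgSpace.yon_obj _) hg (f i) (hf i))
  obtain ⟨s, hs1, hs2⟩ := exists_section_over c hcs v ((yon S).map_injective (by
    rw [Functor.map_comp, hc, reassoc_of% hv, hx]))
  refine ⟨(yon S).map s ≫ f i, ?_, ?_⟩
  · rw [Category.assoc, ← hc, ← Functor.map_comp, hs1, CategoryTheory.Functor.map_id]
  · rw [← Functor.map_comp_assoc, hs2, hv]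

/-- lifting of residual points along smooth morphisms -/
theorem exists_smooth_lift {Z : Sp S} (hZ : IsAlgSpace Z) (hX : IsAlgSpace X) (f : Z ⟶ X)
    (hf : LocP @Smooth f) (z : (yon S).obj (Over.mk str) ⟶ X)
    (z₀ : (yon S).obj (Over.mk (Spec.map (CommRingCat.ofHom (residue R)) ≫ str)) ⟶ Z)
    (w : z₀ ≫ f = (yon S).map (clIncl str) ≫ z) :
    ∃ z' : (yon S).obj (Over.mk str) ⟶ Z, z' ≫ f = z ∧ (yon S).map (clIncl str) ≫ z' = z₀ := by
  have sq := IsPullback.of_hasPullback f z
  have hT := IsAlgSpace.yon_obj (S := S) (Over.mk str)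
  have hP := isAlgSpace_of_isPullback hX.diag hZ hT sq
  obtain ⟨s, hs1, hs2⟩ := exists_space_section hP (pullback.snd f z)
    (locP_of_isPullback etLocal_smooth hZ hX hP sq hf) (pullback.lift z₀ _ w) (pullback.lift_snd _ _ _)
  refine ⟨s ≫ pullback.fst f z, ?_, ?_⟩
  · rw [Category.assoc, pullback.condition, reassoc_of% hs1]
  · rw [reassoc_of% hs2, pullback.lift_fst]

/-- disjoint unions of separated morphisms are separated -/
theorem isSeparated_sigmaDesc {ι : Type u} {W : ι → Scheme.{u}} {T : Scheme.{u}} (c : ∀ i, W i ⟶ T)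
    (h : ∀ i, IsSeparated (c i)) : IsSeparated (Sigma.desc c) := by
  refine ⟨IsClosedImmersion.of_isPreimmersion _ ?_⟩
  let f := Sigma.desc c
  let φ : ∀ i j, pullback (c i) (c j) ⟶ pullback f f := fun i j =>
    pullback.map _ _ _ _ (Sigma.ι W i) (Sigma.ι W j) (𝟙 T) (by simp [f]) (by simp [f])
  have hφ : ∀ i j, IsOpenImmersion (φ i j) := fun i j => by infer_instance
  have hfst : ∀ i j, φ i j ≫ pullback.fst f f = pullback.fst _ _ ≫ Sigma.ι W i := fun i j =>
    pullback.lift_fst _ _ _
  have hsnd : ∀ i j, φ i j ≫ pullback.snd f f = pullback.snd _ _ ≫ Sigma.ι W j := fun i j =>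
    pullback.lift_snd _ _ _
  have hcov : ∀ z, ∃ i j w, φ i j w = z := fun z => by
    obtain ⟨i, a, ha⟩ := (sigmaOpenCover W).exists_eq (pullback.fst f f z)
    obtain ⟨j, b, hb⟩ := (sigmaOpenCover W).exists_eq (pullback.snd f f z)
    have hz : z ∈ Set.range (φ i j) := by
      rw [Scheme.Pullback.range_map]
      exact ⟨⟨a, ha⟩, b, hb⟩
    obtain ⟨w, hw⟩ := hz
    exact ⟨i, j, w, hw⟩
  rw [← isOpen_compl_iff, isOpen_iff_forall_mem_open]
  intro z hz
  obtain ⟨i, j, w, rfl⟩ := hcov z
  refine ⟨φ i j '' (φ i j ⁻¹' (Set.range (pullback.diagonal f))ᶜ), Set.image_preimage_subset _ _, ?_, w, hz, rfl⟩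
  refine (φ i j).isOpenEmbedding.isOpenMap _ ?_
  rw [Set.preimage_compl, isOpen_compl_iff]
  by_cases hij : i = j
  · subst hij
    have e : φ i i ⁻¹' Set.range (pullback.diagonal f) = Set.range (pullback.diagonal (c i)) := by
      have hd : pullback.diagonal (c i) ≫ φ i i = Sigma.ι W i ≫ pullback.diagonal f := by
        apply pullback.hom_ext
        · rw [Category.assoc, Category.assoc, hfst, pullback.diagonal_fst, Category.comp_id,
            pullback.diagonal_fst_assoc]
        · rw [Category.assoc, Category.assoc, hsnd, pullback.diagonal_snd, Category.comp_id,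
            pullback.diagonal_snd_assoc]
      ext y
      constructor
      · rintro ⟨x, hx⟩
        have hx1 : pullback.fst f f (φ i i y) = x := by
          rw [← hx, ← Scheme.Hom.comp_apply, pullback.diagonal_fst]; rfl
        have hx2 : pullback.fst f f (φ i i y) = Sigma.ι W i (pullback.fst (c i) (c i) y) := by
          rw [← Scheme.Hom.comp_apply, hfst]
          rfl
        refine ⟨pullback.fst (c i) (c i) y, (φ i i).isOpenEmbedding.injective ?_⟩
        rw [← Scheme.Hom.comp_apply, hd, Scheme.Hom.comp_apply, ← hx2, hx1, hx]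
      · rintro ⟨x, rfl⟩
        exact ⟨Sigma.ι W i x, by rw [← Scheme.Hom.comp_apply, ← hd]; rfl⟩
    rw [e]
    exact (pullback.diagonal (c i)).isClosedEmbedding.isClosed_range
  · convert isClosed_empty
    refine Set.eq_empty_iff_forall_notMem.2 fun y ⟨x, hx⟩ => ?_
    have h1 : pullback.fst f f (φ i j y) = Sigma.ι W i (pullback.fst (c i) (c j) y) := by
      rw [← Scheme.Hom.comp_apply, hfst]
      rfl
    have h2 : pullback.snd f f (φ i j y) = Sigma.ι W j (pullback.snd (c i) (c j) y) := by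
      rw [← Scheme.Hom.comp_apply, hsnd]
      rfl
    rw [← hx, ← Scheme.Hom.comp_apply, pullback.diagonal_fst] at h1
    rw [← hx, ← Scheme.Hom.comp_apply, pullback.diagonal_snd] at h2
    exact hij (congrArg Sigma.fst ((sigmaι_eq_iff _ _ _ _ _).1 (h1.symm.trans h2)))

/-- etale charts combine to a disjoint union -/
theorem repWith_etale_desc (hX : IsAlgSpace X) {ι : Type u} (V : ι → Over S)
    (f : ∀ i, (yon S).obj (V i) ⟶ X) (hf : ∀ i, RepWith @Etale (f i))
    (a : (yon S).obj (sigmaOver V) ⟶ X) (ha : ∀ i, (yon S).map (sigmaOverι V i) ≫ a = f i) :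
    RepWith @Etale a := by
  refine ⟨representable_diag_iff.1 hX.diag a, fun T P g fst snd sq => ?_⟩
  obtain ⟨m, rfl⟩ := (yon S).map_surjective fst
  let 𝒰 : P.left.OpenCover := (sigmaOpenCover fun i => (V i).left).pullback₁ m.left
  refine IsZariskiLocalAtSource.of_openCover (P := @Etale) 𝒰 fun i => ?_
  let Pi : Over S := Over.mk (pullback.fst m.left (sigmaOverι V i).left ≫ P.hom)
  let a₁ : Pi ⟶ P := Over.homMk (pullback.fst m.left (sigmaOverι V i).left) rfl
  let a₂ : Pi ⟶ V i := Over.homMk (pullback.snd m.left (sigmaOverι V i).left) (by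
    show pullback.snd m.left (sigmaOverι V i).left ≫ (V i).hom = pullback.fst _ _ ≫ P.hom
    rw [← Over.w (sigmaOverι V i), ← pullback.condition_assoc, Over.w m])
  have sqi : IsPullback a₂ a₁ (sigmaOverι V i) m := IsPullback.of_map (Over.forget S)
    (Over.OverMorphism.ext pullback.condition.symm) (IsPullback.of_hasPullback _ _).flip
  have sq2 : IsPullback ((yon S).map a₂) ((yon S).map (a₁ ≫ snd)) (f i) g := by
    rw [← ha i, Functor.map_comp]
    exact (sqi.map (yon S)).paste_vert sq
  exact (hf i).property _ _ _ sq2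

/-- quotients of henselian local rings -/
theorem henselianLocalRing_quotient (a : Ideal R) (ha : a ≠ ⊤) : HenselianLocalRing (R ⧸ a) := by
  have : Nontrivial (R ⧸ a) := Ideal.Quotient.nontrivial_iff.2 ha
  have : IsLocalRing (R ⧸ a) := IsLocalRing.of_surjective' (Ideal.Quotient.mk a) Ideal.Quotient.mk_surjective
  have : HenselianRing R (maximalIdeal R) := HenselLib.henselianRing_maximalIdeal R
  have h := HenselLib.henselianRing_quotient (maximalIdeal R) a
  have e : (maximalIdeal R).map (Ideal.Quotient.mk a) = maximalIdeal (R ⧸ a) :=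
    IsLocalRing.map_maximalIdeal_of_surjective _ Ideal.Quotient.mk_surjective
  rw [e] at h
  refine ⟨fun f hf a₀ h₀ h₁ => h.is_henselian f hf a₀ h₀ (h₁.map _)⟩

/-- a separated etale scheme through which all points over quotients of `R` lift -/
theorem exists_quotient_points_chart (hX : IsAlgSpace X) (R : Type u) [CommRing R] [HenselianLocalRing R]
    (str : Spec (CommRingCat.of R) ⟶ S) :
    ∃ (Z : Over S) (p : (yon S).obj Z ⟶ X), IsSeparated Z.hom ∧ RepWith @Etale p ∧
      ∀ (a : Ideal R) (x : (yon S).obj (Over.mk (Spec.map (CommRingCat.ofHom (Ideal.Quotient.mk a)) ≫ str)) ⟶ X),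
        ∃ g : Over.mk (Spec.map (CommRingCat.ofHom (Ideal.Quotient.mk a)) ≫ str) ⟶ Z,
          (yon S).map g ≫ p = x := by
  obtain ⟨ι, V, f, hV, hf, hlift⟩ := exists_rat_charts hX
  obtain ⟨p, hp, -⟩ := existsUnique_desc_sigma V f
  refine ⟨sigmaOver V, p, ?_, repWith_etale_desc hX V f hf p hp, fun a x => ?_⟩
  · exact isSeparated_sigmaDesc _ fun i => inferInstance
  rcases eq_or_ne a ⊤ with rfl | ha
  · have : Subsingleton (R ⧸ (⊤ : Ideal R)) := Ideal.Quotient.subsingleton_iff.2 rfl
    have : IsEmpty ↥(Over.mk (Spec.map (CommRingCat.ofHom (Ideal.Quotient.mk (⊤ : Ideal R))) ≫ str)).left :=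
      inferInstanceAs (IsEmpty (PrimeSpectrum (R ⧸ (⊤ : Ideal R))))
    refine ⟨Over.homMk (isInitialOfIsEmpty.to _) (isInitialOfIsEmpty.hom_ext _ _), ?_⟩
    exact (subsingleton_hom_of_isEmpty _ X).elim _ _
  · have := henselianLocalRing_quotient a ha
    obtain ⟨i, v, hv⟩ := hlift _ _ ((yon S).map (clIncl _) ≫ x)
    obtain ⟨g, -, hg⟩ := exists_chart_lift (f i) (hf i) x v hv
    exact ⟨g ≫ sigmaOverι V i, by rw [Functor.map_comp, Category.assoc, hp, hg]⟩

/-- the closed subscheme of `Spec R` cut out by an ideal, over `Spec R` -/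
abbrev quotIncl (R : Type u) [CommRing R] (a : Ideal R) :
    Over.mk (Spec.map (CommRingCat.ofHom (Ideal.Quotient.mk a))) ⟶ Over.mk (𝟙 (Spec (CommRingCat.of R))) :=
  Over.homMk (Spec.map (CommRingCat.ofHom (Ideal.Quotient.mk a))) (Category.comp_id _)

/-- sections over closed subschemes of smooth affine schemes lift -/
theorem exists_lift_affine (R : Type u) [CommRing R] [HenselianLocalRing R] (a : Ideal R) (ha : a ≠ ⊤)
    (V : Over (Spec (CommRingCat.of R))) [IsAffine V.left] [Smooth V.hom]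
    (g : Over.mk (Spec.map (CommRingCat.ofHom (Ideal.Quotient.mk a))) ⟶ V) :
    ∃ s : Over.mk (𝟙 (Spec (CommRingCat.of R))) ⟶ V, quotIncl R a ≫ s = g := by
  have : HenselianRing R (maximalIdeal R) := HenselLib.henselianRing_maximalIdeal R
  have : HenselianRing R a := HenselLib.henselianRing_of_le (le_maximalIdeal ha)
  obtain ⟨φ, hφ⟩ := Spec.map_surjective (V.left.isoSpec.inv ≫ V.hom)
  obtain ⟨σ, hσ⟩ := Spec.map_surjective (g.left ≫ V.left.isoSpec.hom)
  have hsm : φ.hom.Smooth := (HasRingHomProperty.Spec_iff (P := @Smooth)).mp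
    (hφ ▸ (inferInstance : Smooth (V.left.isoSpec.inv ≫ V.hom)))
  algebraize [φ.hom]
  have hcomp : φ ≫ σ = CommRingCat.ofHom (Ideal.Quotient.mk a) := by
    apply Spec.map_injective
    rw [Spec.map_comp, hσ, hφ, Category.assoc, Iso.hom_inv_id_assoc]
    exact Over.w g
  let σA : Γ(V.left, ⊤) →ₐ[R] R ⧸ a :=
    { σ.hom with commutes' := fun r => congr($(congrArg CommRingCat.Hom.hom hcomp) r) }
  obtain ⟨τ, hτ⟩ := HenselLib.exists_lift_of_smooth a σA
  refine ⟨Over.homMk (Spec.map (CommRingCat.ofHom τ.toRingHom) ≫ V.left.isoSpec.inv) ?_,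
    Over.OverMorphism.ext ?_⟩
  · show (_ ≫ _) ≫ V.hom = 𝟙 _
    rw [Category.assoc, ← hφ, ← Spec.map_comp,
      show φ ≫ CommRingCat.ofHom τ.toRingHom = 𝟙 (CommRingCat.of R) from
        CommRingCat.hom_ext (RingHom.ext τ.commutes), Spec.map_id]
  · show Spec.map _ ≫ Spec.map _ ≫ V.left.isoSpec.inv = g.left
    rw [← Category.assoc, ← Spec.map_comp,
      show CommRingCat.ofHom τ.toRingHom ≫ CommRingCat.ofHom (Ideal.Quotient.mk a) = σ from
        CommRingCat.hom_ext (RingHom.ext fun z => congr($hτ z)),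
      hσ, Category.assoc, Iso.hom_inv_id, Category.comp_id]

/-- points over closed subschemes of smooth algebraic spaces lift -/
theorem exists_quotient_lift (R : Type u) [CommRing R] [HenselianLocalRing R]
    (X : AlgSp.Space (Spec (CommRingCat.of R)))
    (g : X.obj ⟶ (yon _).obj (Over.mk (𝟙 (Spec (CommRingCat.of R)))))
    (hg : LocP @Smooth g) (a : Ideal R) (ha : a ≠ ⊤)
    (x₀ : (yon _).obj (Over.mk (Spec.map (CommRingCat.ofHom (Ideal.Quotient.mk a)))) ⟶ X.obj) :
    ∃ x : (yon _).obj (Over.mk (𝟙 (Spec (CommRingCat.of R)))) ⟶ X.obj,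
      (yon _).map (quotIncl R a) ≫ x = x₀ := by
  have := henselianLocalRing_quotient a ha
  obtain ⟨ι, V, f, hV, hf, hlift⟩ := exists_rat_charts X.property
  obtain ⟨i, v, hv⟩ := hlift _ _ ((yon _).map (clIncl _) ≫ x₀)
  obtain ⟨g₀, -, hg₀⟩ := exists_chart_lift (f i) (hf i) x₀ v hv
  obtain ⟨c, hc⟩ := (yon _).map_surjective (f i ≫ g)
  have hcs : Smooth c.left := (repWith_yon_map_iff @Smooth c).1 (hc ▸
    repWith_comp_of_locP etLocal_smooth (IsAlgSpace.yon_obj _) hg (f i) (hf i))
  have : Smooth (V i).hom := by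
    rw [← Over.w c]; exact (inferInstance : Smooth (c.left ≫ 𝟙 _))
  have := hV i
  obtain ⟨s, hs⟩ := exists_lift_affine R a ha (V i) g₀
  exact ⟨(yon _).map s ≫ f i, by rw [← Functor.map_comp_assoc, hs, hg₀]⟩

end Groth.Agent.Desc19b.HensSp
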