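import Groth.Agent.Desc19b.HensSp.Tuples
import Groth.Agent.AlgSpLib.DecentPoints
import Groth.Agent.AlgSpLib.ValuationDescent
import Mathlib.RingTheory.Unramified.Field
import Mathlib.FieldTheory.Normal.Closure
import Mathlib.FieldTheory.PrimitiveElement

/-!
Field valued points of algebraic spaces lift to etale schemes over the space without extending the field.
-/

set_option autoImplicit false

universe u

open CategoryTheory CategoryTheory.Limits AlgebraicGeometry Opposite
open AlgSp Groth.Agent.AlgSpLib IsLocalRing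

noncomputable section

namespace Groth.Agent.Desc19b.HensSp

set_option backward.isDefEq.respectTransparency.types false

variable {S : Scheme.{u}} {X : Sp S}

/-- a point of an etale scheme over a field as a monomorphism from a finite separable extension -/
theorem exists_mono_point {K : Type u} [Field K] {W : Scheme.{u}}
    (π : W ⟶ Spec (CommRingCat.of K)) (hπ : Etale π) (z : W) :
    ∃ (Ω : Type u) (_ : Field Ω) (_ : Algebra K Ω) (t : Spec (CommRingCat.of Ω) ⟶ W),
      Module.Finite K Ω ∧ Algebra.IsSeparable K Ω ∧ Mono t ∧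
      t ≫ π = Spec.map (CommRingCat.ofHom (algebraMap K Ω)) := by
  obtain ⟨_, ⟨U, hU, rfl⟩, hz, -⟩ :=
    W.isBasis_affineOpens.exists_subset_of_mem_open (Set.mem_univ z) isOpen_univ
  let U : W.Opens := U
  let D : Type u := Γ(W, U)
  obtain ⟨φ, hφ⟩ := Spec.map_surjective (IsAffineOpen.fromSpec hU ≫ π)
  have he : Etale (Spec.map φ) := by
    rw [hφ]
    exact (inferInstance : Etale (IsAffineOpen.fromSpec hU ≫ π))
  have hφe : φ.hom.Etale := HasRingHomProperty.Spec_iff (P := @Etale).1 he
  algebraize [(φ.hom : K →+* D)]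
  have : Algebra.Etale K D := RingHom.etale_algebraMap.1 hφe
  have : Module.Finite K D := Algebra.FormallyUnramified.finite_of_free K D
  have : IsArtinianRing D := IsArtinianRing.of_finite K D
  let Q : PrimeSpectrum D := hU.primeIdealOf ⟨z, hz⟩
  have : Q.asIdeal.IsMaximal := IsArtinianRing.isMaximal_of_isPrime Q.asIdeal
  let : Field (D ⧸ Q.asIdeal) := Ideal.Quotient.field Q.asIdeal
  have : Algebra.FormallyUnramified K (D ⧸ Q.asIdeal) :=
    Algebra.FormallyUnramified.of_surjective (IsScalarTower.toAlgHom K D (D ⧸ Q.asIdeal))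
      Ideal.Quotient.mk_surjective
  have : IsClosedImmersion (Spec.map (CommRingCat.ofHom (Ideal.Quotient.mk Q.asIdeal))) :=
    IsClosedImmersion.spec_of_surjective _ Ideal.Quotient.mk_surjective
  refine ⟨D ⧸ Q.asIdeal, inferInstance, inferInstance,
    Spec.map (CommRingCat.ofHom (Ideal.Quotient.mk Q.asIdeal)) ≫ IsAffineOpen.fromSpec hU,
    inferInstance, Algebra.FormallyUnramified.isSeparable K _, inferInstance, ?_⟩
  rw [Category.assoc, ← hφ, ← Spec.map_comp]
  rfl

/-- the spectrum of a finite field extension covers -/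
theorem effectiveEpi_specHom {k : Type u} [Field k] (str : Spec (CommRingCat.of k) ⟶ S)
    (K : Type u) [Field K] [Algebra k K] [Module.Finite k K] :
    EffectiveEpi ((yon S).map (specHom str K)) := by
  let q := specHom str K
  have h1 : LocallyOfFinitePresentation q.left := HasRingHomProperty.Spec_iff.2
    (RingHom.finitePresentation_algebraMap.2 (Algebra.FinitePresentation.of_finiteType.1 inferInstance))
  have h2 : Flat q.left := HasRingHomProperty.Spec_iff.2
    (RingHom.flat_algebraMap_iff.2 (inferInstance : Module.Flat k K))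
  have h3 : Surjective q.left := ⟨fun x => ⟨closedPoint K, Subsingleton.elim
    (α := ↥(Spec (CommRingCat.of k))) _ _⟩⟩
  have := isLocallySurjective_of_repWith (a := (yon S).map q)
    ((repWith_yon_map_iff _ q).2 h2) ((repWith_yon_map_iff _ q).2 h1) ((repWith_yon_map_iff _ q).2 h3)
  have : Epi ((yon S).map q) := Sheaf.epi_of_isLocallySurjective _
  have : IsRegularEpiCategory (Sp S) :=
    inferInstanceAs (IsRegularEpiCategory (Sheaf (J S) (Type (u + 1))))
  have : IsRegularEpi ((yon S).map q) := IsRegularEpiCategory.regularEpiOfEpi _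
  exact inferInstance

variable {k : Type u} [Field k] {str : Spec (CommRingCat.of k) ⟶ S}

/-- a Galois stable tuple of lifts of a field valued point -/
theorem exists_stable_lifts {U : Over S} (a : (yon S).obj U ⟶ X) (ha : RepWith @Etale a)
    (x : (yon S).obj (Over.mk str) ⟶ X) (hx : ptOfHom x ∈ Set.range (Points.ofPt a)) :
    ∃ (n : ℕ) (K : Type u) (_ : Field K) (_ : Algebra k K),
      Module.Finite k K ∧ ∃ F : Fin (n + 1) → (specOver str K ⟶ U),
        (∀ i, (yon S).map (F i) ≫ a = (yon S).map (specHom str K) ≫ x) ∧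
        (∀ (Ω : Type u) [Field Ω] (h : Spec (CommRingCat.of Ω) ⟶ (specOver str K).left),
          Function.Injective fun i => h ≫ (F i).left) ∧
        ∀ (Ω : Type u) [Field Ω] (h h' : Spec (CommRingCat.of Ω) ⟶ (specOver str K).left),
          h ≫ (specHom str K).left = h' ≫ (specHom str K).left →
          Set.range (fun i => h ≫ (F i).left) = Set.range fun i => h' ≫ (F i).left := by
  classical
  obtain ⟨u₀, hu₀⟩ := hx
  have sq := ha.1.isPullback x
  obtain ⟨t, ht⟩ := (yon S).map_surjective (ha.1.fst x)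
  let P : Over S := ha.1.pullback x
  let d : P ⟶ Over.mk str := ha.1.snd x
  have sqP : IsPullback ((yon S).map t) ((yon S).map d) a x := ht ▸ sq
  have hd : Etale d.left := ha.property _ _ _ sqP
  obtain ⟨w, -, -⟩ := (ofPt_eq_ofPt_iff sqP u₀ (closedPoint k)).1
    (hu₀.trans (ofPt_eq_ptOfHom_of_field x _).symm)
  obtain ⟨L, _, _, ι, _, _, hι, hιd⟩ := exists_mono_point d.left hd w
  let ιO : specOver str L ⟶ P := Over.homMk ι (by
    show ι ≫ P.hom = Spec.map (CommRingCat.ofHom (algebraMap k L)) ≫ str
    rw [← Over.w d, ← hιd, Category.assoc]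
    rfl)
  let N := IntermediateField.normalClosure k L (AlgebraicClosure k)
  let emb : (L →ₐ[k] AlgebraicClosure k) → (L →ₐ[k] N) := fun f =>
    f.codRestrict N.toSubalgebra fun y => f.fieldRange_le_normalClosure ⟨y, rfl⟩
  have hembi : Function.Injective emb := fun f g e => AlgHom.ext fun y => congrArg Subtype.val (DFunLike.congr_fun e y :)
  have hcard : Fintype.card (L →ₐ[k] AlgebraicClosure k) = Module.finrank k L := AlgHom.card _ _ _
  obtain ⟨n, hn⟩ : ∃ n, Module.finrank k L = n + 1 :=
    ⟨Module.finrank k L - 1, (Nat.succ_pred_eq_of_pos Module.finrank_pos).symm⟩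
  let en := (Fintype.equivFinOfCardEq (hcard.trans hn)).symm
  let e : Fin (n + 1) → (L →ₐ[k] N) := fun i => emb (en i)
  let F : Fin (n + 1) → (specOver str N ⟶ U) := fun i => specMap str (e i) ≫ ιO ≫ t
  have hιOd : ιO ≫ d = specHom str L := Over.OverMorphism.ext hιd
  have hFi : ∀ i, (yon S).map (F i) ≫ a = (yon S).map (specHom str N) ≫ x := fun i => by
    rw [← specMap_comp_specHom str (e i), ← hιOd]
    simp only [F, Functor.map_comp, Category.assoc, sqP.w]
  refine ⟨n, N, inferInstance, inferInstance, inferInstance, F, hFi, fun Ω _ h => ?_,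
    fun Ω _ h h' hh => ?_⟩
  · intro i j hij
    obtain ⟨ψ, hψ⟩ := Spec.map_surjective h
    let hO : Over.mk (h ≫ (specOver str N).hom) ⟶ specOver str N := Over.homMk h rfl
    have h1 : hO ≫ specMap str (e i) ≫ ιO = hO ≫ specMap str (e j) ≫ ιO := by
      refine (yon S).map_injective (sqP.hom_ext ?_ ?_)
      · rw [← Functor.map_comp, ← Functor.map_comp]
        refine congrArg _ (Over.OverMorphism.ext ?_)
        simpa only [F, hO, Over.comp_left, Category.assoc, Over.homMk_left] using hij
      · rw [← Functor.map_comp, ← Functor.map_comp, Category.assoc, Category.assoc, Category.assoc,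
          Category.assoc, hιOd, specMap_comp_specHom, specMap_comp_specHom]
    have h2 : h ≫ (specMap str (e i)).left = h ≫ (specMap str (e j)).left :=
      (cancel_mono ι).1 (by
        simpa only [hO, ιO, Over.comp_left, Category.assoc, Over.homMk_left] using
          congrArg (fun m => m.left) h1)
    refine en.injective (hembi (AlgHom.ext fun y => ψ.hom.injective ?_))
    rw [← hψ] at h2
    simp only [specMap, Over.homMk_left, ← Spec.map_comp] at h2
    exact DFunLike.congr_fun (congrArg CommRingCat.Hom.hom (Spec.map_injective h2)) y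
  · obtain ⟨ψ, rfl⟩ := Spec.map_surjective h
    obtain ⟨ψ', rfl⟩ := Spec.map_surjective h'
    let : Algebra k Ω := (ψ.hom.comp (algebraMap k N)).toAlgebra
    have he : ψ.hom.comp (algebraMap k N) = ψ'.hom.comp (algebraMap k N) := by
      have := hh
      simp only [specHom, Over.homMk_left, ← Spec.map_comp] at this
      exact congrArg CommRingCat.Hom.hom (Spec.map_injective this)
    let Ψ : N →ₐ[k] Ω := ⟨ψ.hom, fun r => rfl⟩
    let Ψ' : N →ₐ[k] Ω := ⟨ψ'.hom, fun r => (DFunLike.congr_fun he r).symm⟩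
    have hb : ∀ Φ : N →ₐ[k] Ω, Set.range (fun i => Φ.comp (e i)) = Set.univ := fun Φ =>
      Set.range_eq_univ.2 (((Fintype.bijective_iff_injective_and_card (fun i => Φ.comp (e i))).2
        ⟨fun i j hij => en.injective (hembi (AlgHom.ext fun y => Φ.toRingHom.injective
          (DFunLike.congr_fun hij y :))), le_antisymm ?_ ?_⟩).2)
    · have hF : ∀ (Φ : N →ₐ[k] Ω), (fun i => Spec.map (CommRingCat.ofHom Φ.toRingHom) ≫ (F i).left) =
          (fun f : L →ₐ[k] Ω => Spec.map (CommRingCat.ofHom f.toRingHom) ≫ ι ≫ t.left) ∘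
            fun i => Φ.comp (e i) := fun Φ => funext fun i => by
        simp only [F, specMap, ιO, Function.comp, Over.comp_left, Over.homMk_left, ← Category.assoc,
          ← Spec.map_comp]
        rfl
      show Set.range (fun i => Spec.map (CommRingCat.ofHom Ψ.toRingHom) ≫ (F i).left) =
        Set.range fun i => Spec.map (CommRingCat.ofHom Ψ'.toRingHom) ≫ (F i).left
      rw [hF, hF, Set.range_comp, Set.range_comp, hb, hb]
    · exact Fintype.card_le_of_injective (fun i => Φ.comp (e i)) fun i j hij =>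
        en.injective (hembi (AlgHom.ext fun y => Φ.toRingHom.injective (DFunLike.congr_fun hij y :)))
    · rw [Fintype.card_fin, ← hn]
      exact (Fintype.card_eq_nat_card).trans_le (card_algHom_le_finrank k L Ω)

/-- descent of a point of the scheme of unordered tuples -/
theorem exists_rat_lift {U W V : Over S} (a : (yon S).obj U ⟶ X) {n : ℕ} (q : (yon S).obj W ⟶ X)
    (c : Fin (n + 1) → (W ⟶ U)) (f : (yon S).obj V ⟶ X) (p : W ⟶ V)
    (hpf : (yon S).map p ≫ f = q) (hc : ∀ i, (yon S).map (c i) ≫ a = q)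
    (huniv : ∀ (T : Over S) (F : Fin (n + 1) → (T ⟶ U)),
        (∀ i j, (yon S).map (F i) ≫ a = (yon S).map (F j) ≫ a) →
        (∀ (Ω : Type u) [Field Ω] (h : Spec (CommRingCat.of Ω) ⟶ T.left),
          Function.Injective fun i => h ≫ (F i).left) → ∃! g : T ⟶ W, ∀ i, g ≫ c i = F i)
    (hrel : ∀ (T : Over S) (g g' : T ⟶ W), (yon S).map g ≫ q = (yon S).map g' ≫ q →
        (∀ (Ω : Type u) [Field Ω] (h : Spec (CommRingCat.of Ω) ⟶ T.left),
          Set.range (fun i => h ≫ g.left ≫ (c i).left) = Set.range (fun i => h ≫ g'.left ≫ (c i).left)) →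
        g ≫ p = g' ≫ p)
    (x : (yon S).obj (Over.mk str) ⟶ X) {K : Type u} [Field K] [Algebra k K] [Module.Finite k K]
    (F : Fin (n + 1) → (specOver str K ⟶ U))
    (hF : ∀ i, (yon S).map (F i) ≫ a = (yon S).map (specHom str K) ≫ x)
    (hinj : ∀ (Ω : Type u) [Field Ω] (h : Spec (CommRingCat.of Ω) ⟶ (specOver str K).left),
          Function.Injective fun i => h ≫ (F i).left)
    (hst : ∀ (Ω : Type u) [Field Ω] (h h' : Spec (CommRingCat.of Ω) ⟶ (specOver str K).left),
          h ≫ (specHom str K).left = h' ≫ (specHom str K).left →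
          Set.range (fun i => h ≫ (F i).left) = Set.range fun i => h' ≫ (F i).left) :
    ∃ v : Over.mk str ⟶ V, (yon S).map v ≫ f = x := by
  obtain ⟨g, hg, -⟩ := huniv _ F (fun i j => (hF i).trans (hF j).symm) hinj
  have hgq : (yon S).map g ≫ q = (yon S).map (specHom str K) ≫ x := by
    rw [← hc 0, ← Functor.map_comp_assoc, hg, hF]
  have := effectiveEpi_specHom str K
  have hgl : ∀ i, g.left ≫ (c i).left = (F i).left := fun i => congrArg (fun m => m.left) (hg i)
  let l : (yon S).obj (Over.mk str) ⟶ (yon S).obj V :=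
    EffectiveEpi.desc ((yon S).map (specHom str K)) ((yon S).map (g ≫ p)) fun g₁ g₂ h => by
      obtain ⟨r, rfl, rfl⟩ := (isPullback_specTensor str K K).exists_lift g₁ g₂ h
      simp only [Category.assoc, ← Functor.map_comp]
      congr 2
      rw [← Category.assoc, ← Category.assoc]
      refine hrel _ _ _ ?_ fun Ω _ k' => ?_
      · rw [Functor.map_comp_assoc, Functor.map_comp_assoc, hgq, ← Functor.map_comp_assoc,
          ← Functor.map_comp_assoc, specMap_comp_specHom, specMap_comp_specHom]
      · simp only [Over.comp_left, Category.assoc, hgl]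
        simp only [← Category.assoc k']
        refine hst Ω _ _ ?_
        simp only [Category.assoc, ← Over.comp_left, specMap_comp_specHom]
  obtain ⟨v, hv⟩ := (yon S).map_surjective l
  refine ⟨v, ?_⟩
  rw [← cancel_epi ((yon S).map (specHom str K)), hv, ← Category.assoc]
  rw [show (yon S).map (specHom str K) ≫ l = (yon S).map (g ≫ p) from EffectiveEpi.fac _ _ _,
    Functor.map_comp, Category.assoc, hpf, hgq]

/-- a small family of etale affine charts through which all field valued points lift -/
theorem exists_rat_charts (hX : IsAlgSpace X) :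
    ∃ (ι : Type u) (V : ι → Over S) (f : ∀ i, (yon S).obj (V i) ⟶ X),
      (∀ i, IsAffine (V i).left) ∧ (∀ i, RepWith @Etale (f i)) ∧
      ∀ (k : Type u) [Field k] (str : Spec (CommRingCat.of k) ⟶ S) (x : (yon S).obj (Over.mk str) ⟶ X),
        ∃ (i : ι) (v : Over.mk str ⟶ V i), (yon S).map v ≫ f i = x := by
  obtain ⟨U₀, a₀, hae, has⟩ := hX.atlas
  let UO : U₀.left.affineOpens → Over S := fun O => Over.mk (O.1.ι ≫ U₀.hom)
  let jO : ∀ O, UO O ⟶ U₀ := fun O => Over.homMk O.1.ι
  have hUO : ∀ O, IsAffine (UO O).left := fun O => O.2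
  let aO : ∀ O, (yon S).obj (UO O) ⟶ X := fun O => (yon S).map (jO O) ≫ a₀
  have haO : ∀ O, RepWith @Etale (aO O) := fun O =>
    RepWith.comp ((repWith_yon_map_iff @Etale _).2 (inferInstanceAs (Etale O.1.ι))) hae
  choose W V q c f p hf hpf hc huniv hrel using fun O n =>
    have := hUO O
    exists_tuples_quot hX (aO O) (haO O) n
  let ι := Σ (O : U₀.left.affineOpens) (n : ℕ), (V O n).left.affineOpens
  let V' : ι → Over S := fun i => Over.mk (i.2.2.1.ι ≫ (V i.1 i.2.1).hom)
  let j' : ∀ i : ι, V' i ⟶ V i.1 i.2.1 := fun i => Over.homMk i.2.2.1.ι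
  refine ⟨ι, V', fun i => (yon S).map (j' i) ≫ f i.1 i.2.1, fun i => i.2.2.2, fun i =>
    RepWith.comp ((repWith_yon_map_iff @Etale _).2 (inferInstanceAs (Etale i.2.2.1.ι))) (hf _ _),
    fun k _ str x => ?_⟩
  obtain ⟨u₀, hu₀⟩ := surjective_ofPt a₀ has (ptOfHom x)
  obtain ⟨O, hO, huO, -⟩ := exists_isAffineOpen_mem_and_subset (x := u₀) (U := ⊤) trivial
  let O' : U₀.left.affineOpens := ⟨O, hO⟩
  have hxO : ptOfHom x ∈ Set.range (Points.ofPt (aO O')) :=
    ⟨(⟨u₀, huO⟩ : O), (ofPt_map (jO O') a₀ _).trans hu₀⟩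
  obtain ⟨n, K, _, _, _, F, hF, hinj, hst⟩ := exists_stable_lifts (aO O') (haO O') x hxO
  obtain ⟨v, hv⟩ := exists_rat_lift (aO O') (q O' n) (c O' n) (f O' n) (p O' n) (hpf O' n) (hc O' n)
    (huniv O' n) (hrel O' n) x F hF hinj hst
  obtain ⟨O₁, hO₁, hvO, -⟩ := exists_isAffineOpen_mem_and_subset (x := v.left (closedPoint k)) (U := ⊤) trivial
  let i : ι := ⟨O', n, ⟨O₁, hO₁⟩⟩
  have hr : Set.range v.left ⊆ Set.range (j' i).left := by
    rintro _ ⟨z, rfl⟩
    rw [Subsingleton.elim (α := ↥(Spec (CommRingCat.of k))) z (closedPoint k)]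
    exact ⟨(⟨_, hvO⟩ : O₁), rfl⟩
  have : IsOpenImmersion (j' i).left := inferInstanceAs (IsOpenImmersion O₁.ι)
  let v' : Over.mk str ⟶ V' i := Over.homMk (IsOpenImmersion.lift (j' i).left v.left hr) (by
    rw [← Over.w (j' i), ← Category.assoc, IsOpenImmersion.lift_fac]; exact Over.w v)
  refine ⟨i, v', ?_⟩
  rw [← Category.assoc, ← Functor.map_comp,
    show v' ≫ j' i = v from Over.OverMorphism.ext (IsOpenImmersion.lift_fac _ _ _)]
  exact hv

end Groth.Agent.Desc19b.HensSp
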