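import Groth.Agent.Desc19b.HensSp.Sheet
import Groth.Agent.Stk19b.SpQuot.Charts

/-!
The translation action on fibre powers, on their representing spaces and on universal objects.
-/

set_option autoImplicit false
set_option backward.isDefEq.respectTransparency false
set_option backward.isDefEq.respectTransparency.types false

universe u

open CategoryTheory CategoryTheory.Limits AlgebraicGeometry Opposite FibCat
open Groth.Agent.Stk19 Groth.Agent.Desc19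

noncomputable section

namespace Groth.Agent.Desc19b.HensSp

variable {S : Scheme.{u}} {𝒵 : AlgSt.Cat S} {U : Over S} {a : overCat U ⥤ᵇ 𝒵} {G : Type u} [Group G]

/-- translation of the coordinates -/
abbrev trC (a : overCat U ⥤ᵇ 𝒵) (g : G) : pw a G ⥤ᵇ pw a G := pwReindex a G (fun h => g⁻¹ * h)

theorem reindex_congr {π π' : G → G} (h : π = π') : pwReindex a G π = pwReindex a G π' := by rw [h]

theorem trC_comp (x y : G) : BasedFunctor.comp (trC a x) (trC a y) = trC a (y * x) :=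
  (show BasedFunctor.comp (trC a x) (trC a y) = pwReindex a G (fun h => x⁻¹ * (y⁻¹ * h)) from rfl).trans
    (reindex_congr (funext fun h => by rw [mul_inv_rev, mul_assoc]))

variable {W : AlgSp.Sp S} (e : AlgSt.ofSp W ⥤ᵇ pw a G) (he : IsEquivOver e)
include he

theorem exists_translations : ∃ s : G → (W ⟶ W),
    (∀ g {T : Over S} (t : (AlgSp.yon S).obj T ⟶ W),
      Nonempty (sheet e (t ≫ s g) ≅ BasedFunctor.comp (sheet e t) (trC a g))) ∧
    (∀ x y, s x ≫ s y = s (y * x)) ∧ s 1 = 𝟙 W := by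
  choose s hs using fun g => exists_endo e he (trC a g)
  refine ⟨s, @hs, fun x y => Stk19b.SpQuot.sp_hom_ext fun T t => ?_, ?_⟩
  · obtain ⟨i₁⟩ := hs y (t ≫ s x)
    obtain ⟨i₂⟩ := hs x t
    obtain ⟨i₃⟩ := hs (y * x) t
    refine sheet_inj e he ?_
    refine eqToIso (by rw [Category.assoc]) ≪≫ i₁ ≪≫ (postB _ (trC a y)).mapIso i₂ ≪≫ eqToIso ?_ ≪≫ i₃.symm
    show BasedFunctor.comp (sheet e t) (BasedFunctor.comp (trC a x) (trC a y)) = _
    rw [trC_comp]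
  · refine Stk19b.SpQuot.sp_hom_ext fun T t => ?_
    obtain ⟨i₁⟩ := hs 1 t
    refine sheet_inj e he ?_
    refine i₁ ≪≫ eqToIso ?_
    rw [Category.comp_id, show trC a (1 : G) = pwReindex a G id from reindex_congr (funext fun h => by simp)]
    rfl

omit he in
/-- morphisms out of a reindexed object are determined by their bases -/
theorem pt_eq (hs : AlgSt.RepByAlgSp (pw a G)) {π π' : G → G} (hπ : π = π') {x y : PWObj a G}
    (u : (pwReindex a G π).obj x ⟶ y) (v : (pwReindex a G π').obj x ⟶ y)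
    (h : 𝒵.p.map u.pt = 𝒵.p.map v.pt) : u.pt = v.pt := by
  subst hπ
  exact congrArg PWObj.Hom.pt (pwHom_ext hs u v h)

variable {Y : Over S} (q : (AlgSp.yon S).obj Y ⟶ W) (s : G → (W ⟶ W))
  (hs : ∀ g {T : Over S} (t : (AlgSp.yon S).obj T ⟶ W),
    Nonempty (sheet e (t ≫ s g) ≅ BasedFunctor.comp (sheet e t) (trC a g)))
include hs

omit he in
theorem crdOf_translate (ρ : G → (Y ⟶ Y)) (hρq : ∀ g, (AlgSp.yon S).map (ρ g) ≫ q = q ≫ s g⁻¹) (g k : G) :
    ρ g ≫ crdOf (sheet e q) k = crdOf (sheet e q) (g * k) := by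
  obtain ⟨i⟩ := hs g⁻¹ q
  rw [← crdOf_restr, ← sheet_map, hρq, crdOf_congr i, crdOf_reindex]
  simp

omit he in
/-- the action on the universal object -/
theorem exists_beta (hsp : AlgSt.RepByAlgSp (pw a G)) (ρ : G → (Y ⟶ Y))
    (hρq : ∀ g, (AlgSp.yon S).map (ρ g) ≫ q = q ≫ s g⁻¹) (hρ : ρ 1 = 𝟙 Y) (hρm : ∀ g h, ρ g ≫ ρ h = ρ (g * h)) :
    ∃ β : ∀ g, (trC a g⁻¹).obj ((sheet e q).obj (Over.mk (𝟙 Y))) ⟶ (sheet e q).obj (Over.mk (𝟙 Y)),
      (∀ g, 𝒵.p.map (β g).pt =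
        eqToHom ((sheet e q).w_obj (Over.mk (𝟙 Y))) ≫ ρ g ≫ eqToHom ((sheet e q).w_obj (Over.mk (𝟙 Y))).symm) ∧
      (β 1).pt = 𝟙 _ ∧ ∀ g h, (β g).pt ≫ (β h).pt = (β (g * h)).pt := by
  have hex : ∀ g, ∃ β : (trC a g⁻¹).obj ((sheet e q).obj (Over.mk (𝟙 Y))) ⟶ (sheet e q).obj (Over.mk (𝟙 Y)),
      (pw a G).p.map β =
        eqToHom ((sheet e q).w_obj (Over.mk (𝟙 Y))) ≫ ρ g ≫ eqToHom ((sheet e q).w_obj (Over.mk (𝟙 Y))).symm := by
    intro g
    obtain ⟨i⟩ := hs g⁻¹ q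
    exact exists_arrow (ρ g) (sheet e q) (BasedFunctor.comp (sheet e q) (trC a g⁻¹))
      (i.symm ≪≫ eqToIso (by rw [← sheet_map, hρq]))
  choose β hβ using hex
  have hβ' : ∀ g, 𝒵.p.map (β g).pt =
      eqToHom ((sheet e q).w_obj (Over.mk (𝟙 Y))) ≫ ρ g ≫ eqToHom ((sheet e q).w_obj (Over.mk (𝟙 Y))).symm := hβ
  refine ⟨β, hβ', ?_, fun g h => ?_⟩
  · refine pt_eq hsp (π' := id) (funext fun k => by simp) (β 1) (𝟙 _) ?_
    rw [hβ', hρ]
    show _ = 𝒵.p.map (𝟙 _)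
    simp
    rfl
  · refine pt_eq hsp (π := fun k => g⁻¹⁻¹ * (h⁻¹⁻¹ * k)) (funext fun k => by simp [mul_assoc])
      ((trC a h⁻¹).map (β g) ≫ β h) (β (g * h)) ?_
    show 𝒵.p.map ((β g).pt ≫ (β h).pt) = _
    rw [𝒵.p.map_comp, hβ', hβ', hβ', ← hρm g h]
    simp

end Groth.Agent.Desc19b.HensSp
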