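import Groth.Agent.Desc19b.HensSp.Level

/-!
Charts descended along free quotients, through which Galois invariant points descend.
-/

set_option autoImplicit false
set_option backward.isDefEq.respectTransparency false
set_option backward.isDefEq.respectTransparency.types false

universe u

open CategoryTheory CategoryTheory.Limits AlgebraicGeometry Opposite FibCat
open Groth.Agent.Stk19 Groth.Agent.Desc19 Groth.Agent.AlgSpLib

noncomputable section

namespace Groth.Agent.Desc19b.HensSp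

variable {S : Scheme.{u}} {𝒵 : AlgSt.Cat S} {U : Over S} {a : overCat U ⥤ᵇ 𝒵} {G : Type u} [Group G] [Finite G]

theorem exists_descended (h𝒵 : AlgSt.IsAlgStack Scheme.fppfPrecoverage 𝒵)
    (ha : AlgSt.RepByAlgSpWith (AlgSp.LocP @Smooth) a) (W : AlgSp.Space S) (e : AlgSt.ofSp W.obj ⥤ᵇ pw a G)
    (he : IsEquivOver e) (s : G → (W.obj ⟶ W.obj))
    (hs : ∀ g {T : Over S} (t : (AlgSp.yon S).obj T ⟶ W.obj),
      Nonempty (sheet e (t ≫ s g) ≅ BasedFunctor.comp (sheet e t) (trC a g)))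
    {Y : Over S} [IsAffine Y.left] (q : (AlgSp.yon S).obj Y ⟶ W.obj) (hq : AlgSp.RepWith @Etale q)
    (ρ : G → (Y ⟶ Y)) (hρ1 : ρ 1 = 𝟙 Y) (hρm : ∀ g h, ρ g ≫ ρ h = ρ (g * h))
    (hρq : ∀ g, (AlgSp.yon S).map (ρ g) ≫ q = q ≫ s g⁻¹) (θ : Γ(U.left, ⊤))
    (hθ : ∀ g h, g ≠ h → IsUnit ((crdOf (sheet e q) g).left.appTop.hom θ - (crdOf (sheet e q) h).left.appTop.hom θ)) :
    ∃ (V : Over S) (p : overCat V ⥤ᵇ 𝒵), IsAffine V.left ∧ AlgSt.RepByAlgSpWith (AlgSp.LocP @Smooth) p ∧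
      ∀ {k K : Type u} [Field k] [Field K] [Algebra k K] [FiniteDimensional k K] [IsGalois k K]
        (str : Spec (CommRingCat.of k) ⟶ S) (ε : G ≃* (K ≃ₐ[k] K)) (v' : specOver str K ⟶ Y)
        (z : overCat (Over.mk str) ⥤ᵇ 𝒵) (c : PWObj a G) (hc : 𝒵.p.obj c.pt = specOver str K)
        (m : c ⟶ (sheet e q).obj (Over.mk (𝟙 Y))) (ζ : c.pt ⟶ z.obj (Over.mk (𝟙 (Over.mk str))))
        (b : ∀ g, (trC a g⁻¹).obj c ⟶ c),
        𝒵.p.map m.pt = eqToHom hc ≫ v' ≫ eqToHom ((sheet e q).w_obj (Over.mk (𝟙 Y))).symm →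
        𝒵.p.map ζ = eqToHom hc ≫ specHom str K ≫ eqToHom (z.w_obj (Over.mk (𝟙 (Over.mk str)))).symm →
        (∀ g, 𝒵.p.map (b g).pt = eqToHom hc ≫ specMap str (ε g).toAlgHom ≫ eqToHom hc.symm) →
        (∀ g, (b g).pt ≫ ζ = ζ) → (∀ g, specMap str (ε g).toAlgHom ≫ v' = v' ≫ ρ g) →
        ∃ v : Over.mk str ⟶ V, Nonempty (z ≅ BasedFunctor.comp (AlgSt.overMap v) p) := by
  classical
  have := Fintype.ofFinite G
  have hsp : AlgSt.RepByAlgSp (pw a G) := (with_pwForget h𝒵.isStack.1 ha G).2 ⟨1⟩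
  obtain ⟨β, hβ, hβ1, hβm⟩ := exists_beta e q s hs hsp ρ hρq hρ1 hρm
  let θY : Γ(Y.left, ⊤) := (crdOf (sheet e q) 1).left.appTop.hom θ
  have hθY : ∀ g, secMap ρ g θY = (crdOf (sheet e q) g).left.appTop.hom θ := fun g => by
    have h1 := congrArg (fun m => m.left.appTop.hom θ) (crdOf_translate e q s hs ρ hρq g 1)
    simpa [θY, secMap] using h1
  have hθY' : ∀ g h, g ≠ h → IsUnit (secMap ρ g θY - secMap ρ h θY) := fun g h hgh => by
    rw [hθY, hθY]; exact hθ g h hgh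
  obtain ⟨V, π, hV, hπe, hπs, hρπ, hfree, hloc, hfac⟩ := exists_quotient_cover ρ hρ1 hρm θY hθY'
  let hx : 𝒵.p.obj ((sheet e q).obj (Over.mk (𝟙 Y))).pt = Y := (sheet e q).w_obj (Over.mk (𝟙 Y))
  let Δ : Deck (AlgSp.J S) 𝒵 G :=
    { T := V
      x := ((sheet e q).obj (Over.mk (𝟙 Y))).pt
      π := eqToHom hx ≫ π
      cov := mem_J_of_flat_lfp_surjective π ⟨_, eqToHom hx.symm, _, ⟨⟩, by simp⟩
      α := fun g => (β g).pt
      α_one := hβ1
      α_mul := hβm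
      α_π := fun g => by simp [hβ, hρπ]
      free := fun {T₀} t g g' ee => hfree (t ≫ eqToHom hx) g g' (by
        rw [hβ, hβ] at ee
        simpa [← cancel_mono (eqToHom hx.symm)] using ee)
      loc := fun {T₀} t t' ee => by
        obtain ⟨R, hR, hg⟩ := hloc (t ≫ eqToHom hx) (t' ≫ eqToHom hx) (by simpa using ee)
        refine ⟨R, hR, fun {T₁} f hf => ?_⟩
        obtain ⟨g, hg⟩ := hg f hf
        refine ⟨g, ?_⟩
        rw [hβ, ← cancel_mono (eqToHom hx)]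
        simpa using hg }
  obtain ⟨y, hy, ν, hν, hνα⟩ := Δ.exists_obj h𝒵.isStack
  obtain ⟨p, i, hi⟩ := exists_classifying h𝒵.isStack.1 y hy
  have hi' : 𝒵.p.map i.inv = eqToHom (hy.trans (p.w_obj (Over.mk (𝟙 V))).symm) := by
    have := vert_inv 𝒵.p i hi
    exact map_eq_of_vert 𝒵.p (R := V) i.inv
  have hνi : 𝒵.p.map (ν ≫ i.inv) = eqToHom hx ≫ π ≫ eqToHom (p.w_obj (Over.mk (𝟙 V))).symm := by
    rw [𝒵.p.map_comp, hν, hi']
    simp [Δ]
  obtain ⟨iso⟩ := exists_iso_overMap h𝒵.isStack.1 π p (BasedFunctor.comp (sheet e q) (pwForget a G))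
    (ν ≫ i.inv) hνi
  refine ⟨V, p, hV, smooth_of_etale_cover h𝒵 π p _ (smooth_sheet_forget h𝒵 ha W e he q hq) iso, ?_⟩
  intro k K _ _ _ _ _ str ε v' z c hc m ζ b hm hζ hb hbζ hv
  have hK : IsAffine (specOver str K).left := inferInstanceAs (IsAffine (Spec _))
  -- the point of the quotient
  obtain ⟨v₀, hv₀⟩ := hfac K (algebraMap k K).fieldRange v'.left fun x hx' => by
    by_contra hne
    simp only [not_exists, not_and] at hne
    refine hx' (RingHom.mem_fieldRange.2 ((IsGalois.mem_range_algebraMap_iff_fixed x).2 fun f => ?_))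
    obtain ⟨g, rfl⟩ := ε.surjective f
    by_contra hfx
    exact hne (ε g).toAlgHom.toRingHom g hfx (congrArg (fun m => m.left) (hv g))
  let ek := (algebraMap k K).rangeRestrictFieldEquiv
  let v₁ : Spec (CommRingCat.of k) ⟶ V.left := Spec.map (CommRingCat.ofHom ek.symm.toRingHom) ≫ v₀
  have hv₁ : (specHom str K).left ≫ v₁ = v'.left ≫ π.left := by
    rw [← hv₀]
    show Spec.map _ ≫ Spec.map _ ≫ v₀ = _
    rw [← Spec.map_comp_assoc, ← CommRingCat.ofHom_comp]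
    congr 2
    refine CommRingCat.hom_ext (RingHom.ext fun x => ?_)
    exact congrArg Subtype.val (ek.apply_symm_apply x)
  let v : Over.mk str ⟶ V := Over.homMk v₁ (by
    have : Flat (specHom str K).left := HasRingHomProperty.Spec_iff.2
      (RingHom.flat_algebraMap_iff.2 (inferInstance : Module.Flat k K))
    have : Surjective (specHom str K).left := ⟨fun x => ⟨IsLocalRing.closedPoint K, Subsingleton.elim
      (α := ↥(Spec (CommRingCat.of k))) _ _⟩⟩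
    have : Epi (specHom str K).left := Flat.epi_of_flat_of_surjective _
    rw [← cancel_epi (specHom str K).left, ← Category.assoc, hv₁, Category.assoc, Over.w π, Over.w v']
    rfl)
  have hvv : specHom str K ≫ v = v' ≫ π := Over.OverMorphism.ext hv₁
  -- the two objects
  let y₁ := z.obj (Over.mk (𝟙 (Over.mk str)))
  let y₂ := p.obj (Over.mk v)
  have h₁ : 𝒵.p.obj y₁ = Over.mk str := z.w_obj _
  have h₂ : 𝒵.p.obj y₂ = Over.mk str := p.w_obj _
  let l : y₂ ⟶ p.obj (Over.mk (𝟙 V)) := p.map (Over.homMk v (Category.comp_id _))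
  have hl : 𝒵.p.map l = eqToHom h₂ ≫ v ≫ eqToHom (p.w_obj (Over.mk (𝟙 V))).symm := based_map p _
  obtain ⟨ν₂, ⟨hν₂, hν₂l⟩, -⟩ := fibGrpd_fac h𝒵.isStack.1 l (m.pt ≫ ν ≫ i.inv)
    (eqToHom hc ≫ specHom str K ≫ eqToHom h₂.symm) (by
      rw [𝒵.p.map_comp, hm, hνi, hl]
      simp [reassoc_of% hvv])
  have hbm : ∀ g, (b g).pt ≫ m.pt = m.pt ≫ (β g).pt := fun g =>
    pt_eq hsp rfl (b g ≫ m) ((trC a g⁻¹).map m ≫ β g) (by
      show 𝒵.p.map ((b g).pt ≫ m.pt) = 𝒵.p.map (m.pt ≫ (β g).pt)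
      rw [𝒵.p.map_comp, 𝒵.p.map_comp, hb, hm, hβ]
      simp [reassoc_of% (hv g)])
  let θK : Γ((specOver str K).left, ⊤) := v'.left.appTop.hom θY
  have hθK : ∀ g h, g ≠ h → IsUnit ((specMap str (ε g).toAlgHom).left.appTop.hom θK -
      (specMap str (ε h).toAlgHom).left.appTop.hom θK) := fun g h hgh => by
    have e1 : ∀ g, (specMap str (ε g).toAlgHom).left.appTop.hom θK = v'.left.appTop.hom (secMap ρ g θY) := fun g =>
      RingHom.congr_fun (congrArg (fun m => m.left.appTop.hom) (hv g)) θY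
    rw [e1, e1, ← map_sub]
    exact (hθY' g h hgh).map _
  have hb1 : (b 1).pt = 𝟙 c.pt := pt_eq hsp (π' := id) (funext fun h => by simp) (b 1) (𝟙 _) (by
    show _ = 𝒵.p.map (𝟙 c.pt)
    rw [hb, map_one, show specMap str (AlgEquiv.toAlgHom (1 : K ≃ₐ[k] K)) = 𝟙 _ from Over.OverMorphism.ext
      (by show Spec.map _ = 𝟙 (Spec _); rw [← Spec.map_id]; rfl)]
    simp)
  have hbmul : ∀ g h, (b g).pt ≫ (b h).pt = (b (g * h)).pt := fun g h =>
    pt_eq hsp (π := fun j => g⁻¹⁻¹ * (h⁻¹⁻¹ * j)) (funext fun j => by simp [mul_assoc])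
      ((trC a h⁻¹).map (b g) ≫ b h) (b (g * h)) (by
      show 𝒵.p.map ((b g).pt ≫ (b h).pt) = _
      rw [𝒵.p.map_comp, hb, hb, hb, map_mul,
        show ((ε g * ε h : K ≃ₐ[k] K)).toAlgHom = (ε g).toAlgHom.comp (ε h).toAlgHom from rfl, specMap_comp]
      simp)
  obtain ⟨χ, hχ⟩ := exists_hom_galois h𝒵 str ε θK hθK c.pt hc (fun g => (b g).pt) hb hb1 hbmul h₁ h₂ ζ ν₂
    hζ hν₂ hbζ fun g => by
      refine fibGrpd_ext h𝒵.isStack.1 l (by simp [hν₂, hb, reassoc_of% (specMap_comp_specHom (str := str) (ε g).toAlgHom)]) ?_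
      rw [Category.assoc, hν₂l, ← Category.assoc, hbm, Category.assoc, ← Category.assoc (β g).pt]
      rw [show (β g).pt ≫ ν = ν from hνα g]
  exact ⟨v, exists_iso_overMap h𝒵.isStack.1 v p z (χ ≫ l) (by rw [𝒵.p.map_comp, hχ, hl]; simp)⟩

end Groth.Agent.Desc19b.HensSp
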