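import Groth.Agent.Desc19b.HensSp.Ring
import Groth.Agent.AlgSpLib.YonCoprod
import Groth.Agent.AlgSpLib.Descent
import Mathlib.AlgebraicGeometry.Sites.Fpqc

/-!
Quotients of affine schemes by free finite groups.
-/

set_option autoImplicit false

universe u

open CategoryTheory CategoryTheory.Limits AlgebraicGeometry Opposite

noncomputable section

namespace Groth.Agent.Desc19b.HensSp

set_option backward.isDefEq.respectTransparency.types false

variable {S : Scheme.{u}} {Y : Over S} [IsAffine Y.left] {G : Type u} [Group G] [Fintype G]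
  (ρ : G → (Y ⟶ Y)) (hone : ρ 1 = 𝟙 Y) (hmul : ∀ g h, ρ g ≫ ρ h = ρ (g * h))

/-- the action on global sections -/
abbrev secMap (g : G) : Γ(Y.left, ⊤) →+* Γ(Y.left, ⊤) := (ρ g).left.appTop.hom

include hone hmul in
theorem exists_secHom : ∃ σ : G →* (Γ(Y.left, ⊤) ≃+* Γ(Y.left, ⊤)), ∀ g, (σ g).toRingHom = secMap ρ g := by
  have hcomp : ∀ g h, (secMap ρ g).comp (secMap ρ h) = secMap ρ (g * h) := fun g h => by
    simp only [secMap, ← hmul g h, Over.comp_left, Scheme.Hom.comp_appTop, CommRingCat.hom_comp]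
  have h1 : secMap ρ 1 = RingHom.id _ := by
    simp only [secMap, hone, Over.id_left, Scheme.Hom.id_appTop, CommRingCat.hom_id]
  let e : G → (Γ(Y.left, ⊤) ≃+* Γ(Y.left, ⊤)) := fun g => RingEquiv.ofRingHom (secMap ρ g) (secMap ρ g⁻¹)
    (by rw [hcomp, mul_inv_cancel, h1]) (by rw [hcomp, inv_mul_cancel, h1])
  exact ⟨{ toFun := e
           map_one' := RingEquiv.ext fun a => RingHom.congr_fun h1 a
           map_mul' := fun g h => RingEquiv.ext fun a => (RingHom.congr_fun (hcomp g h) a).symm }, fun g => rfl⟩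

/-- morphisms agreeing on the invariants differ locally by the group -/
theorem exists_local {σ : G →* (Γ(Y.left, ⊤) ≃+* Γ(Y.left, ⊤))} (hσ : ∀ g, (σ g).toRingHom = secMap ρ g)
    {θ : Γ(Y.left, ⊤)} (hθ' : ∀ g k, g ≠ k → IsUnit (σ g θ - σ k θ)) {T₀ : Scheme.{u}} (t t' : T₀ ⟶ Y.left)
    (he : ∀ b ∈ invSubring σ, t.appTop.hom b = t'.appTop.hom b) :
    ∃ e : G → Γ(T₀, ⊤), (∀ x : T₀, ∃ g, x ∈ T₀.basicOpen (e g)) ∧
      ∀ g, (T₀.basicOpen (e g)).ι ≫ t' = (T₀.basicOpen (e g)).ι ≫ t ≫ (ρ g).left := by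
  obtain ⟨e, hspan, heq⟩ := exists_local_eq σ θ hθ' t.appTop.hom t'.appTop.hom he
  refine ⟨e, fun x => ?_, fun g => ?_⟩
  · by_contra hne
    simp only [not_exists, Scheme.mem_basicOpen_top] at hne
    have hle : Ideal.span (Set.range e) ≤ (IsLocalRing.maximalIdeal _).comap
        (T₀.presheaf.germ ⊤ x trivial).hom := Ideal.span_le.2 (by
      rintro _ ⟨g, rfl⟩
      exact (IsLocalRing.mem_maximalIdeal _).2 (hne g))
    rw [hspan, top_le_iff] at hle
    exact Ideal.comap_ne_top _ (IsLocalRing.maximalIdeal.isMaximal _).ne_top hle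
  · refine ext_of_isAffine (CommRingCat.hom_ext ?_)
    simp only [Scheme.Hom.comp_appTop, CommRingCat.hom_comp]
    have hu : IsUnit ((T₀.basicOpen (e g)).ι.appTop.hom (e g)) := by
      have h0 := (T₀.toRingedSpace.isUnit_res_basicOpen (e g))
      rw [Scheme.Opens.ι_appTop]
      have h1 := h0.map (T₀.presheaf.map (homOfLE (show (T₀.basicOpen (e g)).ι ''ᵁ ⊤ ≤ T₀.basicOpen (e g) from
        (Scheme.Opens.ι_image_top _).le)).op).hom
      erw [← CommRingCat.comp_apply, ← T₀.presheaf.map_comp] at h1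
      exact h1
    refine (heq g (T₀.basicOpen (e g)).ι.appTop.hom hu).trans ?_
    rw [hσ, RingHom.comp_assoc]

include hone hmul in
/-- points agreeing on invariant sections differ locally by the group -/
theorem loc_of_invariant (θ : Γ(Y.left, ⊤)) (hθ : ∀ g k, g ≠ k → IsUnit (secMap ρ g θ - secMap ρ k θ))
    {T₀ : Over S} (t t' : T₀ ⟶ Y)
    (he : ∀ b, (∀ g, secMap ρ g b = b) → t.left.appTop.hom b = t'.left.appTop.hom b) :
    ∃ R ∈ AlgSp.J S T₀, ∀ {T₁ : Over S} (f : T₁ ⟶ T₀), R f → ∃ g, f ≫ t ≫ ρ g = f ≫ t' := by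
  obtain ⟨σ, hσ⟩ := exists_secHom ρ hone hmul
  have hθ' : ∀ g k, g ≠ k → IsUnit (σ g θ - σ k θ) := fun g k e => by
    have := hθ g k e
    rw [← hσ, ← hσ] at this
    exact this
  obtain ⟨ev, hcov, heq⟩ := exists_local ρ hσ hθ' t.left t'.left fun b hb => he b fun g => by
    rw [← hσ]
    exact (mem_invSubring σ).1 hb g
  let W : G → Over S := fun g => Over.mk ((T₀.left.basicOpen (ev g)).ι ≫ T₀.hom)
  let c : ∀ g, W g ⟶ T₀ := fun g => Over.homMk (T₀.left.basicOpen (ev g)).ι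
  have : ∀ g, IsOpenImmersion (c g).left := fun g =>
    inferInstanceAs (IsOpenImmersion (T₀.left.basicOpen (ev g)).ι)
  refine ⟨_, AlgSpLib.ofArrows_mem_J c fun x => ?_, fun {T₁} f hf => ?_⟩
  · obtain ⟨g, hg⟩ := hcov x
    exact ⟨g, ⟨x, hg⟩, rfl⟩
  · obtain ⟨_, l, _, ⟨g⟩, rfl⟩ := hf
    exact ⟨g, Over.OverMorphism.ext (by simp [c, heq g])⟩

include hone hmul in
/-- the action is free -/
theorem free_of_unit (θ : Γ(Y.left, ⊤)) (hθ : ∀ g k, g ≠ k → IsUnit (secMap ρ g θ - secMap ρ k θ))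
    {T₀ : Over S} (t : T₀ ⟶ Y) (g k : G) (e : t ≫ ρ g = t ≫ ρ k) : g = k ∨ ⊥ ∈ AlgSp.J S T₀ := by
  obtain ⟨σ, hσ⟩ := exists_secHom ρ hone hmul
  have hθ' : ∀ g k, g ≠ k → IsUnit (σ g θ - σ k θ) := fun g k e => by
    have := hθ g k e
    rw [← hσ, ← hσ] at this
    exact this
  have e1 := congrArg (fun f => f.left.appTop.hom) e
  simp only [Over.comp_left, Scheme.Hom.comp_appTop, CommRingCat.hom_comp] at e1
  rcases eq_or_subsingleton σ θ hθ' (g := g) (k := k) t.left.appTop.hom (by rw [hσ, hσ]; exact e1) with h | h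
  · exact Or.inl h
  · have : IsEmpty ↥T₀.left := ⟨fun x => by
      have hx : x ∈ T₀.left.basicOpen (0 : Γ(T₀.left, ⊤)) := by
        rw [Subsingleton.elim (0 : Γ(T₀.left, ⊤)) 1, Scheme.basicOpen_of_isUnit _ isUnit_one]
        trivial
      simp at hx⟩
    exact Or.inr (AlgSpLib.bot_mem_J T₀)

include hone hmul in
/-- the quotient by a free action -/
theorem exists_quotient_cover (θ : Γ(Y.left, ⊤))
    (hθ : ∀ g k, g ≠ k → IsUnit (secMap ρ g θ - secMap ρ k θ)) :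
    ∃ (V : Over S) (π : Y ⟶ V), IsAffine V.left ∧ Etale π.left ∧ Surjective π.left ∧ (∀ g, ρ g ≫ π = π) ∧
      (∀ {T₀ : Over S} (t : T₀ ⟶ Y) g k, t ≫ ρ g = t ≫ ρ k → g = k ∨ ⊥ ∈ AlgSp.J S T₀) ∧
      (∀ {T₀ : Over S} (t t' : T₀ ⟶ Y), t ≫ π = t' ≫ π →
        ∃ R ∈ AlgSp.J S T₀, ∀ {T₁ : Over S} (f : T₁ ⟶ T₀), R f → ∃ g, f ≫ t ≫ ρ g = f ≫ t') ∧
      ∀ (K : Type u) [Field K] (k : Subfield K) (m : Spec (CommRingCat.of K) ⟶ Y.left),
        (∀ x : K, x ∉ k → ∃ (γ : K →+* K) (g : G), γ x ≠ x ∧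
          Spec.map (CommRingCat.ofHom γ) ≫ m = m ≫ (ρ g).left) →
        ∃ v : Spec (CommRingCat.of k) ⟶ V.left, Spec.map (CommRingCat.ofHom k.subtype) ≫ v = m ≫ π.left := by
  obtain ⟨σ, hσ⟩ := exists_secHom ρ hone hmul
  have hθ' : ∀ g k, g ≠ k → IsUnit (σ g θ - σ k θ) := fun g k e => by
    have := hθ g k e
    rw [← hσ, ← hσ] at this
    exact this
  obtain ⟨het, hint⟩ := etale_invSubring σ θ hθ'
  let ι : CommRingCat.of (invSubring σ) ⟶ Γ(Y.left, ⊤) := CommRingCat.ofHom (algebraMap (invSubring σ) Γ(Y.left, ⊤))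
  let π₀ : Y.left ⟶ Spec (CommRingCat.of (invSubring σ)) := Y.left.isoSpec.hom ≫ Spec.map ι
  have hιe : ι.hom.Etale := RingHom.etale_algebraMap.2 het
  have : Etale (Spec.map ι) := HasRingHomProperty.Spec_iff.2 hιe
  have : Surjective (Spec.map ι) := ⟨by
    have : Module.Flat (invSubring σ) Γ(Y.left, ⊤) := inferInstance
    have := hint
    intro p
    obtain ⟨Q, -, hQ, hQp⟩ := Ideal.exists_ideal_over_prime_of_isIntegral (S := Γ(Y.left, ⊤)) p.asIdeal ⊥
      (fun b hb => (Subtype.ext (Ideal.mem_bot.1 hb) : b = 0) ▸ p.asIdeal.zero_mem)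
    exact ⟨⟨Q, hQ⟩, PrimeSpectrum.ext hQp⟩⟩
  have : IsAffineHom π₀ := inferInstance
  have hcomm : ∀ g, (ρ g).left ≫ π₀ = π₀ := fun g => by
    rw [← Category.assoc, ← Scheme.isoSpec_hom_naturality, Category.assoc, ← Spec.map_comp]
    refine congrArg (Y.left.isoSpec.hom ≫ ·) (congrArg Spec.map (CommRingCat.hom_ext (RingHom.ext fun b => ?_)))
    show secMap ρ g b.1 = b.1
    rw [← hσ]
    exact (mem_invSubring σ).1 b.2 g
  -- morphisms agreeing on the invariants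
  have hinv : ∀ {T₀ : Scheme.{u}} (t t' : T₀ ⟶ Y.left), t ≫ π₀ = t' ≫ π₀ →
      ∀ b ∈ invSubring σ, t.appTop.hom b = t'.appTop.hom b := by
    intro T₀ t t' htt b hb
    have e1 := congrArg Scheme.Hom.appTop htt
    simp only [π₀, Scheme.Hom.comp_appTop, Category.assoc] at e1
    have e2 : (Spec.map ι).appTop ≫ Y.left.isoSpec.hom.appTop =
        (Scheme.ΓSpecIso _).hom ≫ ι := by
      rw [Scheme.isoSpec_hom, Scheme.toSpecΓ_appTop, Scheme.ΓSpecIso_naturality]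
    rw [reassoc_of% e2, reassoc_of% e2, cancel_epi] at e1
    exact RingHom.congr_fun (congrArg CommRingCat.Hom.hom e1) (⟨b, hb⟩ : invSubring σ)
  have hloc : ∀ {T₀ : Scheme.{u}} (t t' : T₀ ⟶ Y.left), t ≫ π₀ = t' ≫ π₀ →
      ∃ e : G → Γ(T₀, ⊤), (∀ x : T₀, ∃ g, x ∈ T₀.basicOpen (e g)) ∧
        ∀ g, (T₀.basicOpen (e g)).ι ≫ t' = (T₀.basicOpen (e g)).ι ≫ t ≫ (ρ g).left := fun t t' htt =>
    exists_local ρ hσ hθ' t t' (hinv t t' htt)
  obtain ⟨hom, hhom⟩ : ∃ hom : Spec (CommRingCat.of (invSubring σ)) ⟶ S, π₀ ≫ hom = Y.hom := by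
    refine ⟨EffectiveEpi.desc π₀ Y.hom fun {Z} g₁ g₂ hg => ?_, EffectiveEpi.fac _ _ _⟩
    obtain ⟨e, hcov, heq⟩ := hloc g₁ g₂ hg
    let 𝒰 : Z.OpenCover := Z.openCoverOfIsOpenCover (fun g => Z.basicOpen (e g))
      (TopologicalSpace.IsOpenCover.mk <| eq_top_iff.2 fun x _ => TopologicalSpace.Opens.mem_iSup.2 (hcov x))
    refine 𝒰.hom_ext _ _ fun g => ?_
    show (Z.basicOpen (e g)).ι ≫ g₁ ≫ Y.hom = (Z.basicOpen (e g)).ι ≫ g₂ ≫ Y.hom
    rw [reassoc_of% (heq g), Over.w (ρ g)]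
  let V : Over S := Over.mk hom
  let π : Y ⟶ V := Over.homMk π₀ hhom
  refine ⟨V, π, inferInstanceAs (IsAffine (Spec (CommRingCat.of (invSubring σ)))),
    inferInstanceAs (Etale π₀), inferInstanceAs (Surjective π₀), fun g => Over.OverMorphism.ext (hcomm g),
    fun {T₀} t g k e => free_of_unit ρ hone hmul θ hθ t g k e,
    fun {T₀} t t' e => loc_of_invariant ρ hone hmul θ hθ t t' fun b hb => ?_, fun K _ k m hm => ?_⟩
  · have e1 := congrArg (fun f => f.left.appTop.hom) e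
    exact hinv t.left t'.left (congrArg (fun f => f.left) e) b ((mem_invSubring σ).2 fun g =>
      (RingHom.congr_fun (hσ g) b).trans (hb g))
  · obtain ⟨μ, hμ⟩ := Spec.map_surjective (m ≫ Y.left.isoSpec.hom)
    have hk : ∀ b : invSubring σ, μ.hom b.1 ∈ k := fun b => by
      by_contra hb
      obtain ⟨γ, g, hγ, hγm⟩ := hm _ hb
      have e1 : μ ≫ CommRingCat.ofHom γ = (ρ g).left.appTop ≫ μ := Spec.map_injective (by
        rw [Spec.map_comp, Spec.map_comp, hμ, reassoc_of% hγm, Category.assoc, Scheme.isoSpec_hom_naturality])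
      refine hγ ((RingHom.congr_fun (congrArg CommRingCat.Hom.hom e1) b.1).trans (congrArg μ.hom ?_))
      show secMap ρ g b.1 = b.1
      rw [← hσ]
      exact (mem_invSubring σ).1 b.2 g
    let μ' : CommRingCat.of (invSubring σ) ⟶ CommRingCat.of k :=
      CommRingCat.ofHom ((μ.hom.comp (invSubring σ).subtype).codRestrict k hk)
    refine ⟨Spec.map μ', ?_⟩
    show _ = m ≫ Y.left.isoSpec.hom ≫ Spec.map ι
    rw [← Category.assoc, ← hμ, ← Spec.map_comp, ← Spec.map_comp]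
    rfl

end Groth.Agent.Desc19b.HensSp
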