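import Groth.Agent.Stk19.Elem
import Groth.Agent.Stk19.Glue
import Groth.Agent.Stk19.Stack

/-!
Descent of objects of a stack along a covering with a free group of deck transformations.
-/

set_option autoImplicit false
set_option backward.isDefEq.respectTransparency false
set_option backward.isDefEq.respectTransparency.types false

universe w v₂ u₂ v u

open CategoryTheory FibCat Groth.Agent.Stk19

noncomputable section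

namespace Groth.Agent.Desc19b.HensSp

variable {C : Type u} [Category.{v} C] {J : GrothendieckTopology C} {𝒳 : BasedCategory.{v₂, u₂} C}

/-- arrows agreeing on a covering agree -/
theorem arrow_ext_local (h : Stk.IsPrestack J 𝒳) {z y : 𝒳.obj} {φ ψ : z ⟶ y}
    (hm : 𝒳.p.map φ = 𝒳.p.map ψ) {R : Sieve (𝒳.p.obj z)} (hR : R ∈ J (𝒳.p.obj z))
    (hloc : ∀ (w : 𝒳.obj) (ν : w ⟶ z), R (𝒳.p.map ν) → ν ≫ φ = ν ≫ ψ) : φ = ψ := by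
  obtain ⟨y₀, c, ey, hc⟩ := fibGrpd_lift h.1 y (𝒳.p.map φ)
  obtain ⟨φ₀, ⟨hφ₁, hφ₂⟩, -⟩ := fibGrpd_fac h.1 c φ (eqToHom ey.symm) (by rw [hc]; simp)
  obtain ⟨ψ₀, ⟨hψ₁, hψ₂⟩, -⟩ := fibGrpd_fac h.1 c ψ (eqToHom ey.symm) (by rw [hc, ← hm]; simp)
  rw [← hφ₂, ← hψ₂]
  refine congrArg (· ≫ c) (vert_ext_of_prestack h.1 (h.2 R hR) φ₀ ψ₀
    (vert_of_map_eq 𝒳.p hφ₁) (vert_of_map_eq 𝒳.p hψ₁) fun V f hf => ?_)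
  obtain ⟨w, ν, ew, hν⟩ := fibGrpd_lift h.1 z f
  refine ⟨w, ν, IsHomLift.of_fac' 𝒳.p _ _ ew rfl (by rw [hν]; simp), fibGrpd_ext h.1 c ?_ ?_⟩
  · rw [Functor.map_comp, Functor.map_comp, hφ₁, hψ₁]
  · rw [Category.assoc, Category.assoc, hφ₂, hψ₂]
    refine hloc w ν ?_
    rw [hν]
    exact R.downward_closed hf _

/-- the data: a cover with a group of deck transformations acting on an object above it -/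
structure Deck (J : GrothendieckTopology C) (𝒳 : BasedCategory.{v₂, u₂} C) (G : Type w) [Group G] where
  /-- the covered object -/
  T : C
  /-- the object above the cover -/
  x : 𝒳.obj
  /-- the covering -/
  π : 𝒳.p.obj x ⟶ T
  cov : Sieve.generate (Presieve.singleton π) ∈ J T
  /-- the action on the object -/
  α : G → (x ⟶ x)
  α_one : α 1 = 𝟙 x
  α_mul : ∀ g h, α g ≫ α h = α (g * h)
  α_π : ∀ g, 𝒳.p.map (α g) ≫ π = π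
  free : ∀ {T₀ : C} (t : T₀ ⟶ 𝒳.p.obj x) g g', t ≫ 𝒳.p.map (α g) = t ≫ 𝒳.p.map (α g') → g = g' ∨ ⊥ ∈ J T₀
  loc : ∀ {T₀ : C} (t t' : T₀ ⟶ 𝒳.p.obj x), t ≫ π = t' ≫ π →
    ∃ R ∈ J T₀, ∀ {T₁ : C} (f : T₁ ⟶ T₀), R f → ∃ g, f ≫ t ≫ 𝒳.p.map (α g) = f ≫ t'

namespace Deck

variable {G : Type w} [Group G] (Δ : Deck J 𝒳 G)

/-- invariant arrows from the object descend -/
theorem exists_hom (h : Stk.IsPrestack J 𝒳) {y₁ y₂ : 𝒳.obj} (h₁ : 𝒳.p.obj y₁ = Δ.T) (h₂ : 𝒳.p.obj y₂ = Δ.T)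
    (ν₁ : Δ.x ⟶ y₁) (ν₂ : Δ.x ⟶ y₂) (hν₁ : 𝒳.p.map ν₁ = Δ.π ≫ eqToHom h₁.symm)
    (hν₂ : 𝒳.p.map ν₂ = Δ.π ≫ eqToHom h₂.symm) (hα₁ : ∀ g, Δ.α g ≫ ν₁ = ν₁) (hα₂ : ∀ g, Δ.α g ≫ ν₂ = ν₂) :
    ∃ χ : y₁ ⟶ y₂, 𝒳.p.map χ = eqToHom (h₁.trans h₂.symm) ∧ ν₁ ≫ χ = ν₂ := by
  have key : ∀ {z : 𝒳.obj} (l l' : z ⟶ Δ.x), l ≫ ν₁ = l' ≫ ν₁ → l ≫ ν₂ = l' ≫ ν₂ := by
    intro z l l' he
    have hb : 𝒳.p.map l ≫ Δ.π = 𝒳.p.map l' ≫ Δ.π := by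
      have := congrArg 𝒳.p.map he
      rw [← cancel_mono (eqToHom h₁.symm)]
      simpa [hν₁] using this
    obtain ⟨R, hR, hg⟩ := Δ.loc _ _ hb
    refine arrow_ext_local h (by simp [hν₂, reassoc_of% hb]) hR fun w ν hν => ?_
    obtain ⟨g, hg⟩ := hg _ hν
    have e : ν ≫ l ≫ Δ.α g = ν ≫ l' := fibGrpd_ext h.1 ν₁ (by simpa using hg)
      (by simp [hα₁, he])
    simpa [hα₂] using e =≫ ν₂
  obtain ⟨χ, ⟨hχ₁, hχ₂⟩, -⟩ : ∃! χ : y₁ ⟶ y₂, 𝒳.p.map χ = eqToHom (h₁.trans h₂.symm) ∧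
      ∀ (z : 𝒳.obj) (ν : z ⟶ y₁) (hz : (Sieve.generate (Presieve.singleton Δ.π)).arrows (𝒳.p.map ν ≫ eqToHom h₁)),
        ∃ l : z ⟶ Δ.x, l ≫ ν₁ = ν ∧ l ≫ ν₂ = ν ≫ χ := by
    have lift : ∀ (z : 𝒳.obj) (ν : z ⟶ y₁), (Sieve.generate (Presieve.singleton Δ.π)).arrows (𝒳.p.map ν ≫ eqToHom h₁) →
        ∃ l : z ⟶ Δ.x, l ≫ ν₁ = ν := by
      rintro z ν ⟨W, t, π', ⟨⟩, ht⟩
      obtain ⟨l, ⟨-, hl⟩, -⟩ := fibGrpd_fac h.1 ν₁ ν t (by rw [hν₁, reassoc_of% ht]; simp)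
      exact ⟨l, hl⟩
    choose l hl using lift
    obtain ⟨χ, ⟨hχ₁, hχ₂⟩, hu⟩ := isPrestackFor_homGlue h.1 (h.2 _ Δ.cov) y₁ y₂ h₁ h₂ (fun z ν hz => l z ν hz ≫ ν₂)
      (fun z ν hz => by
        have e := congrArg 𝒳.p.map (hl z ν hz)
        rw [Functor.map_comp, hν₁] at e
        rw [Functor.map_comp, hν₂, ← e]
        simp)
      (fun z' z g ν hz hz' => by
        rw [← Category.assoc]
        exact key _ _ (by rw [hl, Category.assoc, hl]))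
    refine ⟨χ, ⟨hχ₁, fun z ν hz => ⟨l z ν hz, hl z ν hz, (hχ₂ z ν hz).symm⟩⟩, fun χ' ⟨h', h''⟩ => hu χ' ⟨h', fun z ν hz => ?_⟩⟩
    obtain ⟨l', hl', hl''⟩ := h'' z ν hz
    rw [← hl'']
    exact key _ _ (hl'.trans (hl z ν hz).symm)
  obtain ⟨l, hl₁, hl₂⟩ := hχ₂ Δ.x ν₁ ⟨_, 𝟙 _, Δ.π, ⟨⟩, by rw [hν₁]; simp⟩
  refine ⟨χ, hχ₁, ?_⟩
  rw [← hl₂]
  simpa using key l (𝟙 _) (by simpa using hl₁)

/-- arrows compatible with the action -/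
def Good {z z' : 𝒳.obj} (l : z ⟶ Δ.x) (l' : z' ⟶ Δ.x) (χ : z ⟶ z') : Prop :=
  ∀ (w : 𝒳.obj) (ν : w ⟶ z) (g : G), 𝒳.p.map (ν ≫ l ≫ Δ.α g) = 𝒳.p.map (ν ≫ χ ≫ l') →
    ν ≫ l ≫ Δ.α g = ν ≫ χ ≫ l'

theorem eq_of_base (h : Stk.IsPrestack J 𝒳) {w : 𝒳.obj} (m : w ⟶ Δ.x) (g g' : G)
    (e : 𝒳.p.map (m ≫ Δ.α g) = 𝒳.p.map (m ≫ Δ.α g')) : m ≫ Δ.α g = m ≫ Δ.α g' := by
  rcases Δ.free (𝒳.p.map m) g g' (by rw [← Functor.map_comp, ← Functor.map_comp, e]) with rfl | he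
  · rfl
  · exact arrow_ext_local h e he fun w' ν hν => False.elim hν

theorem good_id (h : Stk.IsPrestack J 𝒳) {z : 𝒳.obj} (l : z ⟶ Δ.x) : Δ.Good l l (𝟙 z) := fun w ν g e => by
  have := Δ.eq_of_base h (ν ≫ l) g 1 (by simpa [Δ.α_one] using e)
  simpa [Δ.α_one] using this

theorem good_α (h : Stk.IsPrestack J 𝒳) (g : G) : Δ.Good (𝟙 Δ.x) (𝟙 Δ.x) (Δ.α g) := fun w ν g' e => by
  simpa using Δ.eq_of_base h ν g' g (by simpa using e)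

theorem good_comp (h : Stk.IsPrestack J 𝒳) {z z' z'' : 𝒳.obj} {l : z ⟶ Δ.x} {l' : z' ⟶ Δ.x} {l'' : z'' ⟶ Δ.x}
    {χ : z ⟶ z'} {χ' : z' ⟶ z''} (hχ : Δ.Good l l' χ) (hχ' : Δ.Good l' l'' χ')
    (hb : 𝒳.p.map χ ≫ 𝒳.p.map l' ≫ Δ.π = 𝒳.p.map l ≫ Δ.π) : Δ.Good l l'' (χ ≫ χ') := by
  intro w ν g e
  obtain ⟨R, hR, hg⟩ := Δ.loc (𝒳.p.map (ν ≫ l)) (𝒳.p.map (ν ≫ χ ≫ l')) (by simp [hb])
  refine arrow_ext_local h e hR fun w' μ hμ => ?_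
  obtain ⟨g₁, hg₁⟩ := hg _ hμ
  have e₁ : (μ ≫ ν) ≫ l ≫ Δ.α g₁ = (μ ≫ ν) ≫ χ ≫ l' := hχ w' (μ ≫ ν) g₁ (by simpa using hg₁)
  have e₂ : ((μ ≫ ν) ≫ χ) ≫ l' ≫ Δ.α (g₁⁻¹ * g) = (μ ≫ ν) ≫ l ≫ Δ.α g := by
    rw [Category.assoc, ← Category.assoc χ, ← Category.assoc (μ ≫ ν), ← e₁]
    simp only [Category.assoc, Δ.α_mul, mul_inv_cancel_left]
  have e₃ := hχ' w' ((μ ≫ ν) ≫ χ) (g₁⁻¹ * g) (by
    rw [e₂, Category.assoc, 𝒳.p.map_comp μ, e]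
    simp)
  rw [e₂] at e₃
  simpa using e₃

theorem good_unique (h : Stk.IsPrestack J 𝒳) {z z' : 𝒳.obj} {l : z ⟶ Δ.x} {l' : z' ⟶ Δ.x} {χ χ' : z ⟶ z'}
    (hχ : Δ.Good l l' χ) (hχ' : Δ.Good l l' χ') (hm : 𝒳.p.map χ = 𝒳.p.map χ')
    (hb : 𝒳.p.map χ ≫ 𝒳.p.map l' ≫ Δ.π = 𝒳.p.map l ≫ Δ.π) : χ = χ' := by
  obtain ⟨R, hR, hg⟩ := Δ.loc (𝒳.p.map l) (𝒳.p.map (χ ≫ l')) (by simp [hb])
  refine arrow_ext_local h hm hR fun w μ hμ => ?_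
  obtain ⟨g, hg⟩ := hg _ hμ
  refine fibGrpd_ext h.1 l' (by simp [hm]) ?_
  rw [Category.assoc, Category.assoc, ← hχ w μ g (by simpa using hg), ← hχ' w μ g (by simpa [hm] using hg)]

theorem exists_good (h : Stk.IsPrestack J 𝒳) {z z' : 𝒳.obj} (l : z ⟶ Δ.x) (l' : z' ⟶ Δ.x)
    (φ : 𝒳.p.obj z ⟶ 𝒳.p.obj z') (hb : φ ≫ 𝒳.p.map l' ≫ Δ.π = 𝒳.p.map l ≫ Δ.π) :
    ∃ χ : z ⟶ z', 𝒳.p.map χ = φ ∧ Δ.Good l l' χ := by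
  obtain ⟨R, hR, hg⟩ := Δ.loc (𝒳.p.map l) (φ ≫ 𝒳.p.map l') (by simpa using hb.symm)
  obtain ⟨z₀, c, ez, hc⟩ := fibGrpd_lift h.1 z' φ
  have loc : ∀ (w : 𝒳.obj) (ν : w ⟶ z), R.arrows (𝒳.p.map ν ≫ eqToHom rfl) →
      ∃ t : w ⟶ z₀, 𝒳.p.map t = 𝒳.p.map ν ≫ eqToHom ez.symm ∧
        ∃ g, t ≫ c ≫ l' = ν ≫ l ≫ Δ.α g := by
    intro w ν hν
    obtain ⟨g, hg⟩ := hg _ hν
    obtain ⟨t, ⟨ht₁, ht₂⟩, -⟩ := fibGrpd_fac h.1 (c ≫ l') (ν ≫ l ≫ Δ.α g) (𝒳.p.map ν ≫ eqToHom ez.symm)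
      (by simpa [hc] using hg.symm)
    exact ⟨t, ht₁, g, ht₂⟩
  choose t ht₁ g ht₂ using loc
  obtain ⟨χ, ⟨hχ₁, hχ₂⟩, -⟩ := isPrestackFor_homGlue h.1 (h.2 R hR) z z₀ rfl ez t (fun w ν hν => ht₁ w ν hν)
    fun w' w μ ν hν hν' => by
      refine fibGrpd_ext h.1 (c ≫ l') (by simp [ht₁]) ?_
      simp only [Category.assoc, ht₂]
      have := Δ.eq_of_base h ((μ ≫ ν) ≫ l) (g w' (μ ≫ ν) hν') (g w ν hν) (by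
        have e1 := congrArg 𝒳.p.map (ht₂ w' (μ ≫ ν) hν')
        have e2 := congrArg 𝒳.p.map (ht₂ w ν hν)
        simp only [Functor.map_comp, Category.assoc, ht₁] at e1 e2 ⊢
        rw [← e1, ← e2])
      simpa using this
  refine ⟨χ ≫ c, by simp [hχ₁, hc], fun w ν g' e => ?_⟩
  refine arrow_ext_local h e (J.pullback_stable (𝒳.p.map ν) hR) fun w' μ hμ => ?_
  have hμ' : R.arrows (𝒳.p.map (μ ≫ ν) ≫ eqToHom rfl) := by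
    rw [eqToHom_refl, Category.comp_id, Functor.map_comp]; exact hμ
  have e1 := hχ₂ w' (μ ≫ ν) hμ'
  have e2 : (μ ≫ ν) ≫ l ≫ Δ.α (g w' (μ ≫ ν) hμ') = (μ ≫ ν) ≫ (χ ≫ c) ≫ l' := by
    rw [← ht₂ w' (μ ≫ ν) hμ', ← e1]; simp
  have e3 := Δ.eq_of_base h ((μ ≫ ν) ≫ l) g' (g w' (μ ≫ ν) hμ') (by
    simp only [Category.assoc] at e2 ⊢
    simp only [Functor.map_comp, Category.assoc] at e
    rw [e2]
    simp only [Functor.map_comp, e])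
  simp only [Category.assoc] at e2 e3 ⊢
  rw [e3, e2]

/-- descent of the object -/
theorem exists_obj (h : Stk.IsStack J 𝒳) :
    ∃ (y : 𝒳.obj) (hy : 𝒳.p.obj y = Δ.T) (ν : Δ.x ⟶ y), 𝒳.p.map ν = Δ.π ≫ eqToHom hy.symm ∧
      ∀ g, Δ.α g ≫ ν = ν := by
  have hp := isStack_isPrestack h
  let R := Sieve.generate (Presieve.singleton Δ.π)
  have lift : ∀ b : (Stk.sieveCat R).obj, ∃ (z : 𝒳.obj) (l : z ⟶ Δ.x) (ez : 𝒳.p.obj z = b.obj.left),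
      𝒳.p.map l ≫ Δ.π = eqToHom ez ≫ b.obj.hom := by
    intro b
    obtain ⟨W, t, π', hπ, ht⟩ := b.property
    cases hπ
    obtain ⟨z, l, ez, hl⟩ := fibGrpd_lift h.1 Δ.x t
    exact ⟨z, l, ez, by rw [hl, Category.assoc, ht]⟩
  choose z l ez hl using lift
  have hex : ∀ {b b' : (Stk.sieveCat R).obj} (φ : b ⟶ b'),
      ∃ χ : z b ⟶ z b', 𝒳.p.map χ = eqToHom (ez b) ≫ φ.hom.left ≫ eqToHom (ez b').symm ∧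
        Δ.Good (l b) (l b') χ := by
    intro b b' φ
    refine Δ.exists_good hp _ _ _ ?_
    simp [hl, Over.w φ.hom]
  choose χ hχ₁ hχ₂ using @hex
  have hbase : ∀ {b b' : (Stk.sieveCat R).obj} (φ : b ⟶ b'),
      𝒳.p.map (χ φ) ≫ 𝒳.p.map (l b') ≫ Δ.π = 𝒳.p.map (l b) ≫ Δ.π := fun {b b'} φ => by
    simp [hl, hχ₁, Over.w φ.hom]
  let D : Stk.sieveCat R ⥤ᵇ 𝒳 :=
    { toFunctor :=
        { obj := z
          map := fun {b b'} φ => χ φ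
          map_id := fun b => Δ.good_unique hp (hχ₂ (𝟙 b)) (Δ.good_id hp (l b)) (by
            rw [hχ₁, show (𝟙 b : b ⟶ b).hom.left = 𝟙 b.obj.left from rfl]; simp) (hbase _)
          map_comp := fun {b b' b''} φ ψ => Δ.good_unique hp (hχ₂ (φ ≫ ψ))
            (Δ.good_comp hp (hχ₂ φ) (hχ₂ ψ) (hbase φ)) (by
            rw [hχ₁, show (φ ≫ ψ).hom.left = φ.hom.left ≫ ψ.hom.left from rfl]; simp [hχ₁]) (hbase _) }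
      w := CategoryTheory.Functor.ext ez fun b b' φ => by
        show 𝒳.p.map (χ φ) = _
        rw [hχ₁]
        rfl }
  obtain ⟨y, hy, μ, hμ₁, hμ₂⟩ := ((isStackFor_iff_glue h.1 R).1 (h.2 R Δ.cov)).2 D
  let b₀ : (Stk.sieveCat R).obj := ⟨Over.mk Δ.π, ⟨_, 𝟙 _, Δ.π, ⟨⟩, Category.id_comp _⟩⟩
  obtain ⟨ν₀, hν₁, hν₂⟩ := Δ.exists_good hp (𝟙 Δ.x) (l b₀) (eqToHom (ez b₀).symm) (by simp [hl, b₀])
  refine ⟨y, hy, ν₀ ≫ μ b₀, ?_, fun g => ?_⟩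
  · rw [Functor.map_comp, hν₁, hμ₁]
    simp [b₀]
  · let φ : b₀ ⟶ b₀ := ObjectProperty.homMk (Over.homMk (𝒳.p.map (Δ.α g)) (Δ.α_π g))
    have e : Δ.α g ≫ ν₀ = ν₀ ≫ χ φ := by
      refine Δ.good_unique hp (Δ.good_comp hp (Δ.good_α hp g) hν₂ (by simp [Δ.α_π]))
        (Δ.good_comp hp hν₂ (hχ₂ φ) (by simp [hν₁, hl, b₀])) (by simp [hν₁, hχ₁, φ, b₀]) ?_
      simp [hν₁, hl, b₀, Δ.α_π]
    rw [← Category.assoc, e, Category.assoc]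
    exact congrArg (ν₀ ≫ ·) (hμ₂ b₀ b₀ φ)

end Deck

end Groth.Agent.Desc19b.HensSp
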