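import Groth.Agent.Desc19b.HensSp.Point
import Groth.Agent.Desc19b.HensSp.RatPt

/-!
The family of affine smooth charts attached to a chart and a finite group.
-/

set_option autoImplicit false
set_option backward.isDefEq.respectTransparency false
set_option backward.isDefEq.respectTransparency.types false

universe u

open CategoryTheory CategoryTheory.Limits AlgebraicGeometry Opposite FibCat
open Groth.Agent.Stk19 Groth.Agent.Desc19 Groth.Agent.AlgSpLib

noncomputable section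

namespace Groth.Agent.Desc19b.HensSp

variable {S : Scheme.{u}} {𝒵 : AlgSt.Cat S}

theorem mem_basicOpen_of_isUnit {X Y : Scheme.{u}} (f : X ⟶ Y) (d : Γ(Y, ⊤)) (h : IsUnit (f.appTop.hom d))
    (x : X) : f x ∈ Y.basicOpen d := by
  have e : x ∈ f ⁻¹ᵁ Y.basicOpen d := by
    rw [Scheme.preimage_basicOpen_top, Scheme.basicOpen_of_isUnit _ h]
    trivial
  exact e

theorem isUnit_of_range_subset {X Y : Scheme.{u}} (f : X ⟶ Y) (d : Γ(Y, ⊤))
    (h : ∀ x, f x ∈ Y.basicOpen d) : IsUnit (f.appTop.hom d) :=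
  X.toRingedSpace.isUnit_of_isUnit_germ ⊤ _ fun x _ => by
    have e : x ∈ f ⁻¹ᵁ Y.basicOpen d := h x
    rw [Scheme.preimage_basicOpen_top, Scheme.mem_basicOpen_top] at e
    exact e

/-- charts descended from orbits -/
theorem exists_charts_group (h𝒵 : AlgSt.IsAlgStack Scheme.fppfPrecoverage 𝒵) {U : Over S} [IsAffine U.left]
    (a : overCat U ⥤ᵇ 𝒵) (ha : AlgSt.RepByAlgSpWith (AlgSp.LocP @Smooth) a) (θ : Γ(U.left, ⊤))
    (G : Type u) [Group G] [Finite G] :
    ∃ (ι : Type u) (V : ι → Over S) (p : ∀ i, overCat (V i) ⥤ᵇ 𝒵),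
      (∀ i, IsAffine (V i).left) ∧ (∀ i, AlgSt.RepByAlgSpWith (AlgSp.LocP @Smooth) (p i)) ∧
      ∀ {k K : Type u} [Field k] [Field K] [Algebra k K] [FiniteDimensional k K] [IsGalois k K]
        (str : Spec (CommRingCat.of k) ⟶ S) (ε : G ≃* (K ≃ₐ[k] K)) (z : overCat (Over.mk str) ⥤ᵇ 𝒵)
        (u : specOver str K ⟶ U)
        (_ : BasedFunctor.comp (AlgSt.overMap u) a ≅ BasedFunctor.comp (AlgSt.overMap (specHom str K)) z),
        (∀ g h, g ≠ h → IsUnit ((specMap str (ε g).toAlgHom ≫ u).left.appTop.hom θ -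
          (specMap str (ε h).toAlgHom ≫ u).left.appTop.hom θ)) →
        ∃ (i : ι) (v : Over.mk str ⟶ V i), Nonempty (BasedFunctor.comp (AlgSt.overMap v) (p i) ≅ z) := by
  classical
  obtain ⟨W, e, he⟩ := (with_pwForget h𝒵.isStack.1 ha G).2 ⟨1⟩
  obtain ⟨s, hs, hsm, hs1⟩ := exists_translations e he
  obtain ⟨κ, V₀, f₀, hV₀, hf₀, hlift⟩ := exists_rat_charts W.property
  choose Y q c ρ hsep hqe hcq hρ1 hρm hρq hρc huniv using fun i =>
    have := hV₀ i
    exists_orbit_scheme (f₀ i) (hf₀ i) s hsm hs1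
  let d : ∀ i, G → G → Γ((Y i).left, ⊤) := fun i g h =>
    (crdOf (sheet e (q i)) g).left.appTop.hom θ - (crdOf (sheet e (q i)) h).left.appTop.hom θ
  choose O j τ hO hj hrange hτ1 hτm hτj using fun (i : Σ i : κ, (Y i).left.affineOpens) =>
    exists_stable_affine (hsep i.1) (ρ i.1) (hρ1 i.1) (hρm i.1) i.2
  let ι := {i : Σ i : κ, (Y i).left.affineOpens // ∀ g h, g ≠ h → i.2.1 ≤ (Y i.1).left.basicOpen (d i.1 g h)}
  have hq' : ∀ i : ι, AlgSp.RepWith @Etale ((AlgSp.yon S).map (j i.1) ≫ q i.1.1) := fun i => by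
    have := hj i.1
    exact MorphismProperty.comp_mem _ _ _ ((AlgSp.repWith_yon_map_iff @Etale (j i.1)).2 (inferInstance : Etale (j i.1).left)) (hqe _)
  have hτq : ∀ (i : ι) g, (AlgSp.yon S).map (τ i.1 g) ≫ (AlgSp.yon S).map (j i.1) ≫ q i.1.1 =
      ((AlgSp.yon S).map (j i.1) ≫ q i.1.1) ≫ s g⁻¹ := fun i g => by
    rw [← Functor.map_comp_assoc, hτj, Functor.map_comp, Category.assoc, hρq, Category.assoc]
  have hθ : ∀ (i : ι) g h, g ≠ h →
      IsUnit ((crdOf (sheet e ((AlgSp.yon S).map (j i.1) ≫ q i.1.1)) g).left.appTop.hom θ -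
        (crdOf (sheet e ((AlgSp.yon S).map (j i.1) ≫ q i.1.1)) h).left.appTop.hom θ) := fun i g h hgh => by
    rw [sheet_map, crdOf_restr, crdOf_restr]
    have hu : IsUnit ((j i.1).left.appTop.hom (d i.1.1 g h)) := isUnit_of_range_subset _ _ fun x => by
      have hx : (j i.1).left x ∈ ⋂ g, (ρ i.1.1 g).left ⁻¹' (i.1.2.1 : Set (Y i.1.1).left) := hrange i.1 ▸ ⟨x, rfl⟩
      have := Set.mem_iInter.1 hx 1
      rw [hρ1] at this
      exact i.2 g h hgh this
    rw [show d i.1.1 g h = _ from rfl, map_sub] at hu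
    simpa using hu
  choose V p hV hp hlv using fun i : ι =>
    have := hO i.1
    exists_descended h𝒵 ha W e he s hs ((AlgSp.yon S).map (j i.1) ≫ q i.1.1) (hq' i) (τ i.1) (hτ1 i.1)
      (hτm i.1) (hτq i) θ (hθ i)
  refine ⟨ι, V, p, hV, hp, ?_⟩
  intro k K _ _ _ _ _ str ε z u jz hu
  obtain ⟨w, cK, hc, ζ, b, iK, hiK, hζ, hb, hbζ, hwe, hcrd⟩ := exists_point h𝒵 ha W e he s hs str ε z u jz
  let ψ : G → (specOver str K ⟶ specOver str K) := fun g => specMap str (ε g).toAlgHom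
  have hψm : ∀ g h, ψ g ≫ ψ h = ψ (g * h) := fun g h => by
    show _ = specMap str _
    rw [← specMap_comp, map_mul]
    rfl
  obtain ⟨i₀, v₀, hv₀⟩ := hlift K (specOver str K).hom w
  have hval : ∀ g, (AlgSp.yon S).map (ψ g ≫ v₀) ≫ f₀ i₀ ≫ s g = w := fun g => by
    rw [Functor.map_comp, Category.assoc, reassoc_of% hv₀, reassoc_of% (hwe g), hsm, mul_inv_cancel, hs1,
      Category.comp_id]
  obtain ⟨m, hm, -⟩ := huniv i₀ (specOver str K) (fun g => ψ g ≫ v₀) fun g h => (hval g).trans (hval h).symm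
  have hmq : (AlgSp.yon S).map m ≫ q i₀ = w := by
    rw [← hcq i₀ 1, ← Functor.map_comp_assoc, hm, hval]
  have hmρ : ∀ g, ψ g ≫ m = m ≫ ρ i₀ g := fun g => by
    refine (huniv i₀ (specOver str K) (fun h => ψ g ≫ ψ h ≫ v₀) fun h h' => ?_).unique
      (fun h => by rw [Category.assoc, hm]) fun h => by rw [Category.assoc, hρc, hm, ← hψm, Category.assoc]
    rw [Functor.map_comp, Category.assoc, hval, Functor.map_comp (AlgSp.yon S) (ψ g) (ψ h' ≫ v₀),
      Category.assoc, hval]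
  -- the point of the orbit scheme
  let pt : ↥(specOver str K).left := IsLocalRing.closedPoint K
  let y₀ : ↥(Y i₀).left := m.left pt
  have hfix : ∀ g, (ρ i₀ g).left y₀ = y₀ := fun g => by
    have e1 := congrArg (fun f => f.left pt) (hmρ g)
    simp only [Over.comp_left, Scheme.Hom.comp_apply] at e1
    rw [Subsingleton.elim (α := ↥(Spec (CommRingCat.of K))) ((ψ g).left pt) pt] at e1
    exact e1.symm
  let B : (Y i₀).left.Opens := ⨅ x : {x : G × G // x.1 ≠ x.2}, (Y i₀).left.basicOpen (d i₀ x.1.1 x.1.2)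
  have hyB : y₀ ∈ B := by
    show y₀ ∈ ((⨅ x : {x : G × G // x.1 ≠ x.2}, (Y i₀).left.basicOpen (d i₀ x.1.1 x.1.2) : (Y i₀).left.Opens) : Set _)
    rw [TopologicalSpace.Opens.coe_iInf]
    refine Set.mem_iInter.2 fun x => mem_basicOpen_of_isUnit m.left _ ?_ pt
    have e1 : ∀ g, m.left.appTop.hom ((crdOf (sheet e (q i₀)) g).left.appTop.hom θ) =
        (ψ g ≫ u).left.appTop.hom θ := fun g => by
      have e2 : crdOf (sheet e w) g = m ≫ crdOf (sheet e (q i₀)) g := by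
        rw [← crdOf_restr, ← sheet_map, hmq]
      rw [hcrd] at e2
      exact (congrArg (fun f => f.left.appTop.hom θ) e2).symm
    rw [show d i₀ x.1.1 x.1.2 = _ from rfl, map_sub, e1, e1]
    exact hu _ _ x.2
  obtain ⟨O₀, hO₀, hyO, hOB⟩ := exists_isAffineOpen_mem_and_subset hyB
  let i : ι := ⟨⟨i₀, O₀, hO₀⟩, fun g h hgh y hy => by
    have h1 : y ∈ ((⨅ x : {x : G × G // x.1 ≠ x.2}, (Y i₀).left.basicOpen (d i₀ x.1.1 x.1.2) : (Y i₀).left.Opens) : Set _) :=
      hOB hy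
    rw [TopologicalSpace.Opens.coe_iInf] at h1
    exact Set.mem_iInter.1 h1 ⟨(g, h), hgh⟩⟩
  have := hj i.1
  have hr : Set.range m.left ⊆ Set.range (j i.1).left := by
    rintro _ ⟨x, rfl⟩
    rw [hrange, Subsingleton.elim (α := ↥(Spec (CommRingCat.of K))) x pt]
    exact Set.mem_iInter.2 fun g => by
      show (ρ i₀ g).left y₀ ∈ O₀
      rw [hfix]; exact hyO
  let v' : specOver str K ⟶ O i.1 := Over.homMk (IsOpenImmersion.lift (j i.1).left m.left hr) (by
    rw [← Over.w (j i.1), ← Category.assoc, IsOpenImmersion.lift_fac]; exact Over.w m)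
  have hv'j : v' ≫ j i.1 = m := Over.OverMorphism.ext (IsOpenImmersion.lift_fac _ _ _)
  have : Mono (j i.1) := (Over.forget S).mono_of_mono_map (inferInstanceAs (Mono (j i.1).left))
  have hv : ∀ g, ψ g ≫ v' = v' ≫ τ i.1 g := fun g => (cancel_mono (j i.1)).1 (by
    rw [Category.assoc, hv'j, Category.assoc, hτj, reassoc_of% hv'j, hmρ])
  -- the arrow to the universal object
  have hw' : (AlgSp.yon S).map v' ≫ (AlgSp.yon S).map (j i.1) ≫ q i.1.1 = w := by
    rw [← Functor.map_comp_assoc, hv'j]; exact hmq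
  obtain ⟨b₁, hb₁⟩ := exists_arrow v' (sheet e ((AlgSp.yon S).map (j i.1) ≫ q i.1.1)) (sheet e w)
    (eqToIso (by rw [← hw']; rfl))
  have hmap : 𝒵.p.map (iK ≫ b₁).pt = eqToHom hc ≫ v' ≫
      eqToHom ((sheet e ((AlgSp.yon S).map (j i.1) ≫ q i.1.1)).w_obj (Over.mk (𝟙 (O i.1)))).symm := by
    show 𝒵.p.map (iK.pt ≫ b₁.pt) = _
    rw [𝒵.p.map_comp, hiK, show 𝒵.p.map b₁.pt = _ from hb₁]
    simp
  obtain ⟨v, ⟨iso⟩⟩ := hlv i str ε v' z cK hc (iK ≫ b₁) ζ b hmap hζ hb hbζ hv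
  exact ⟨i, v, ⟨iso.symm⟩⟩

end Groth.Agent.Desc19b.HensSp
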