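import Groth.Agent.AlgSpLib.Tuples

/-!
Fibre products of finitely many etale charts.
-/

set_option autoImplicit false

universe u

open CategoryTheory CategoryTheory.Limits AlgebraicGeometry Opposite
open AlgSp Groth.Agent.AlgSpLib

noncomputable section

namespace Groth.Agent.Desc19b.HensSp

set_option backward.isDefEq.respectTransparency.types false

variable {S : Scheme.{u}} {X : Sp S}

/-- the fibre powers of a chart -/
theorem exists_fibreProd {U : Over S} [IsAffine U.left] (n : ℕ) (a : Fin (n + 1) → ((yon S).obj U ⟶ X))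
    (ha : ∀ i, RepWith @Etale (a i)) :
    ∃ (Z : Over S) (q : (yon S).obj Z ⟶ X) (c : Fin (n + 1) → (Z ⟶ U)) (A : Scheme.{u}) (φ : Z.left ⟶ A),
      RepWith @Etale q ∧ (∀ i, (yon S).map (c i) ≫ a i = q) ∧ IsAffine A ∧ Mono φ ∧
      ∀ (T : Over S) (f : Fin (n + 1) → (T ⟶ U)),
        (∀ i j, (yon S).map (f i) ≫ a i = (yon S).map (f j) ≫ a j) → ∃! h : T ⟶ Z, ∀ i, h ≫ c i = f i := by
  induction n with
  | zero =>
    refine ⟨U, a 0, fun _ => 𝟙 U, U.left, 𝟙 U.left, ha 0, fun i => ?_, inferInstance, inferInstance,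
      fun T f _ => ⟨f 0, fun i => ?_, fun h hh => ?_⟩⟩
    · rw [Fin.fin_one_eq_zero i]
      erw [(yon S).map_id, Category.id_comp]
    · rw [Fin.fin_one_eq_zero i, Category.comp_id]
    · rw [← hh 0, Category.comp_id]
  | succ n ih =>
    obtain ⟨Z, q, c, A, φ, hq, hc, hA, hφ, huniv⟩ := ih (fun i => a i.castSucc) (fun i => ha _)
    obtain ⟨t, ht⟩ := (yon S).map_surjective ((ha (Fin.last _)).1.fst q)
    let P : Over S := (ha (Fin.last _)).1.pullback q
    let d : P ⟶ Z := (ha (Fin.last _)).1.snd q
    have sq : IsPullback ((yon S).map t) ((yon S).map d) (a (Fin.last _)) q := ht ▸ (ha (Fin.last _)).1.isPullback q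
    have : Etale d.left := (ha (Fin.last _)).property _ _ _ sq
    have : IsAffine (A ⨯ U.left) := IsAffine.of_isIso (prodIsoPullback A U.left).hom
    let ψ : P.left ⟶ A ⨯ U.left := prod.lift (d.left ≫ φ) t.left
    have hψm : Mono ψ := ⟨fun {W} g₁ g₂ hg => by
      have a1 := congr($hg ≫ prod.fst)
      have a2 := congr($hg ≫ prod.snd)
      simp only [ψ, Category.assoc, prod.lift_fst, prod.lift_snd] at a1 a2
      rw [← Category.assoc, ← Category.assoc, cancel_mono φ] at a1
      have eW : g₂ ≫ P.hom = g₁ ≫ P.hom := by rw [← Over.w t, ← Category.assoc, ← a2, Category.assoc]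
      let G₁ : Over.mk (g₁ ≫ P.hom) ⟶ P := Over.homMk g₁
      let G₂ : Over.mk (g₁ ≫ P.hom) ⟶ P := Over.homMk g₂ eW
      have : G₁ = G₂ := (yon S).map_injective (sq.hom_ext
        (by rw [← Functor.map_comp, ← Functor.map_comp]; exact congrArg _ (Over.OverMorphism.ext a2))
        (by rw [← Functor.map_comp, ← Functor.map_comp]; exact congrArg _ (Over.OverMorphism.ext a1)))
      exact congrArg (fun k : Over.mk (g₁ ≫ P.hom) ⟶ P => k.left) this⟩
    refine ⟨P, (yon S).map d ≫ q, Fin.snoc (fun i => d ≫ c i) t, A ⨯ U.left, ψ, RepWith.comp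
      ((repWith_yon_map_iff (P := @Etale) d).2 inferInstance) hq, fun i => ?_, inferInstance, hψm,
      fun T f hf => ?_⟩
    · induction i using Fin.lastCases with
      | last => rw [Fin.snoc_last]; exact sq.w
      | cast i => rw [Fin.snoc_castSucc, Functor.map_comp, Category.assoc, hc]
    · obtain ⟨h₀, hh₀, hu₀⟩ := huniv T (fun i => f i.castSucc) fun i j => hf _ _
      obtain ⟨h, hh⟩ := (yon S).map_surjective (sq.lift ((yon S).map (f (Fin.last _))) ((yon S).map h₀) (by
        rw [← hc 0, ← Category.assoc, ← Functor.map_comp, hh₀]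
        exact hf _ _))
      have ht' : h ≫ t = f (Fin.last _) := (yon S).map_injective (by rw [Functor.map_comp, hh, sq.lift_fst])
      have hd : h ≫ d = h₀ := (yon S).map_injective (by rw [Functor.map_comp, hh, sq.lift_snd])
      refine ⟨h, fun i => ?_, fun h' hh' => ?_⟩
      · induction i using Fin.lastCases with
        | last => rw [Fin.snoc_last, ht']
        | cast i => rw [Fin.snoc_castSucc, reassoc_of% hd, hh₀]
      · refine (yon S).map_injective (sq.hom_ext ?_ ?_)
        · rw [← Functor.map_comp, ← Functor.map_comp, ht', ← hh' (Fin.last _), Fin.snoc_last]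
        · rw [← Functor.map_comp, ← Functor.map_comp, hd, hu₀ (h' ≫ d) fun i => ?_]
          rw [← hh' i.castSucc, Fin.snoc_castSucc, Category.assoc]

end Groth.Agent.Desc19b.HensSp
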