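import Groth.Agent.Stk19b.Gerbe.Smooth
import Groth.Agent.VarietyLib.SeparablePoints
import Groth.Agent.HenselLib.SectionsLift

/-!
Gerbes which are algebraic stacks have objects over strictly henselian local rings.
-/

set_option autoImplicit false
set_option backward.isDefEq.respectTransparency false
set_option backward.isDefEq.respectTransparency.types false

universe u

open CategoryTheory CategoryTheory.Limits AlgebraicGeometry Opposite FibCat
open Groth.Agent.Stk19 Groth.Agent.Desc19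

noncomputable section

namespace Groth.Agent.Desc19b.HensSp

/-- a smooth scheme over a separably closed field with a point has a rational point -/
theorem exists_ratPoint (k : Type u) [Field k] [IsSepClosed k] (W : Scheme.{u})
    (f : W ⟶ Spec (CommRingCat.of k)) [Smooth f] (w : W) :
    ∃ t : Spec (CommRingCat.of k) ⟶ W, t ≫ f = 𝟙 _ := by
  obtain ⟨O, hO, hwO, -⟩ := exists_isAffineOpen_mem_and_subset (x := w) (U := ⊤) trivial
  obtain ⟨φ, hφ⟩ := Spec.map_surjective (hO.fromSpec ≫ f)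
  have : Smooth (Spec.map φ) := hφ ▸ (inferInstance : Smooth (hO.fromSpec ≫ f))
  have hsm : φ.hom.Smooth := (HasRingHomProperty.Spec_iff (P := @Smooth)).mp this
  algebraize [φ.hom]
  let A : Type u := Γ(W, O)
  have : Nonempty (Spec Γ(W, O)) := ⟨hO.primeIdealOf ⟨w, hwO⟩⟩
  have : Nontrivial Γ(W, O) := PrimeSpectrum.nonempty_iff_nontrivial.1 this
  obtain ⟨Ω, _, _, hfin, hsep, ⟨g⟩⟩ := VarietyLib.exists_separable_point k Γ(W, O)
  let g' : Γ(W, O) →ₐ[k] k :=
    (AlgEquiv.ofBijective (Algebra.ofId k Ω) ⟨(algebraMap k Ω).injective,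
      IsSepClosed.algebraMap_surjective k Ω⟩).symm.toAlgHom.comp g
  refine ⟨Spec.map (CommRingCat.ofHom g'.toRingHom) ≫ hO.fromSpec, ?_⟩
  rw [Category.assoc, ← hφ, ← Spec.map_comp,
    show φ ≫ CommRingCat.ofHom g'.toRingHom = 𝟙 (CommRingCat.of k) from
      CommRingCat.hom_ext (RingHom.ext g'.commutes), Spec.map_id]

/-- smooth charts of the base are smooth schemes -/
theorem smooth_hom_of_with {S : Scheme.{u}} {U : Over S} (f : overCat U ⥤ᵇ selfOver (Over S))
    (h : AlgSt.RepByAlgSpWith (AlgSp.LocP @Smooth) f) : Smooth U.hom := by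
  let c : U ⟶ Over.mk (𝟙 S) := Over.mkIdTerminal.from U
  let E := toSelf (overCat (Over.mk (𝟙 S) : Over S))
  have hE : IsEquivOver E := isEquivOver_toSelf_terminal
  have h' : AlgSt.RepByAlgSpWith (AlgSp.LocP @Smooth) (AlgSt.overMap c) :=
    (repByAlgSpWith_iff_of_square (f' := AlgSt.overMap c) (f := f) (a := BasedFunctor.id _) (b := E)
      (isEquivOver_id _) hE (selfIso _ _)).2 h
  have : Smooth c.left := Stk19b.Gerbe.prop_of_with_overMap AlgSpLib.etLocal_smooth h'
  rw [← Over.w c]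
  exact MorphismProperty.comp_mem _ _ _ ‹Smooth c.left› (inferInstanceAs (Smooth (𝟙 S)))

/-- sections of gerbes over strictly henselian local rings -/
theorem nonempty_fiber_of_gerbe (R : Type u) [CommRing R] [HenselianLocalRing R]
    [IsSepClosed (IsLocalRing.ResidueField R)] (ℋ : AlgSt.Cat (Spec (CommRingCat.of R)))
    (hℋ : AlgSt.IsAlgStack Scheme.fppfPrecoverage ℋ)
    (hger : Gerb.IsGerbeOver (AlgSp.J (Spec (CommRingCat.of R))) (FibCat.toSelf ℋ)) :
    Nonempty (ℋ.p.Fiber (Over.mk (𝟙 (Spec (CommRingCat.of R))))) := by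
  obtain ⟨U, x, -, hxs, hxf⟩ := exists_chart_of_locQ AlgSpLib.etLocal_smooth le_rfl
    (Stk19b.Gerbe.gerbe_smooth hℋ isAlgStack_selfOver hger)
  have hsm : Smooth U.hom := smooth_hom_of_with _ hxf
  let k : Type u := IsLocalRing.ResidueField R
  let j : Spec (CommRingCat.of k) ⟶ Spec (CommRingCat.of R) :=
    Spec.map (CommRingCat.ofHom (IsLocalRing.residue R))
  obtain ⟨p, hp⟩ := (Stk19b.Gerbe.gerbe_props hℋ isAlgStack_selfOver hger).1
    (AlgSt.Points.mk { K := k, str := j, obj := Over.mk j, lies := rfl })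
  obtain ⟨t, rfl⟩ := ofChart_surjective hℋ.isStack.1 hxs p
  rw [AlgSt.Points.ofChart, AlgSt.Points.map_mk, points_mk_eq_iff fibGrpd_selfOver] at hp
  obtain ⟨r, a, b, -⟩ := hp
  let a' : Over.mk r.str ⟶ Over.mk (U.left.fromSpecResidueField t ≫ U.hom) :=
    eqToHom r.lies.symm ≫ a ≫ eqToHom (x.w_obj _)
  let b' : Over.mk r.str ⟶ Over.mk j := eqToHom r.lies.symm ≫ b
  have e2 : a'.left ≫ U.left.fromSpecResidueField t ≫ U.hom = b'.left ≫ j :=
    (Over.w a').trans (Over.w b').symm
  let ω : Spec (CommRingCat.of r.K) := IsLocalRing.closedPoint r.K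
  let o : Spec (CommRingCat.of k) := b'.left ω
  have ht : U.hom t = j o := by
    have e3 := congrArg (fun m : Spec (CommRingCat.of r.K) ⟶ _ => m ω) e2
    simp only [Scheme.Hom.comp_apply] at e3
    exact (congrArg U.hom (Scheme.fromSpecResidueField_apply t (a'.left ω))).symm.trans e3
  obtain ⟨w, -, -⟩ := Scheme.Pullback.exists_preimage_pullback (f := U.hom) (g := j) t o ht
  obtain ⟨t₀, ht₀⟩ := exists_ratPoint k _ (pullback.snd U.hom j) w
  obtain ⟨s, hs, -⟩ := HenselLib.SectionsLift.exists_section (f := U.hom) (t₀ ≫ pullback.fst U.hom j)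
    (by rw [Category.assoc, pullback.condition, reassoc_of% ht₀])
  exact ⟨⟨x.obj (Over.mk (Over.homMk s hs : Over.mk (𝟙 _) ⟶ U)), x.w_obj _⟩⟩

end Groth.Agent.Desc19b.HensSp
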