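import Groth.Agent.Desc19b.HensSp.Lift
import Groth.Agent.Stk19b.PointLift

/-!
Lifting of residual points along representable smooth morphisms to stacks.
-/

set_option autoImplicit false
set_option backward.isDefEq.respectTransparency false
set_option backward.isDefEq.respectTransparency.types false

universe u

open CategoryTheory CategoryTheory.Limits AlgebraicGeometry Opposite FibCat
open Groth.Agent.Stk19 Groth.Agent.Desc19

noncomputable section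

namespace Groth.Agent.Desc19b.HensSp

variable {S : Scheme.{u}} {𝒳 𝒴 : AlgSt.Cat S} {f : 𝒴 ⥤ᵇ 𝒳} {U T : Over S} {y : overCat U ⥤ᵇ 𝒳}
  {F : AlgSp.Sp S} (e : AlgSt.ofSp F ⥤ᵇ fp y f)

/-- the lift attached to a section of a representing space -/
abbrev secObj (s : (AlgSp.yon S).obj T ⟶ F) : overCat T ⥤ᵇ 𝒴 :=
  BasedFunctor.comp (BasedFunctor.comp (BasedFunctor.comp (AlgSt.ofOverCat T) (AlgSt.ofSpMap s)) e)
    (fpSnd y f)

/-- a lift of an object gives a section inducing it -/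
theorem exists_sec_iso (he : IsEquivOver e) (m : T ⟶ U) (x : overCat T ⥤ᵇ 𝒴)
    (j : BasedFunctor.comp x f ≅ BasedFunctor.comp (AlgSt.overMap m) y) :
    ∃ s : (AlgSp.yon S).obj T ⟶ F,
      s ≫ AlgSt.spMapOfOver (BasedFunctor.comp e (fpFst y f)) = (AlgSp.yon S).map m ∧
      Nonempty (secObj e s ≅ x) := by
  obtain ⟨Ψ, -, ⟨c₀⟩⟩ := he
  let ψ : overCat T ⥤ᵇ fp y f := fpLift (AlgSt.overMap m) x j.symm
  let Φ : AlgSt.ofSp ((AlgSp.yon S).obj T) ⥤ᵇ AlgSt.ofSp F :=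
    BasedFunctor.comp (AlgSt.toOverCat _) (BasedFunctor.comp ψ Ψ)
  obtain ⟨i⟩ := spHom_iso Φ
  refine ⟨spHom Φ, ?_, ⟨?_⟩⟩
  · rw [← spMapOfOver_comp]
    have ii : BasedFunctor.comp Φ (BasedFunctor.comp e (fpFst y f)) ≅
        BasedFunctor.comp (AlgSt.toOverCat _) (AlgSt.overMap m) :=
      (Stk.restr (BasedFunctor.comp (AlgSt.toOverCat _) ψ) _).mapIso ((postB _ (fpFst y f)).mapIso c₀)
    rw [spMapOfOver_congr ii.hom, spMapOfOver_overMap, spMapOfOver_toOverCat, Category.id_comp]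
  · exact (postB _ (fpSnd y f)).mapIso ((postB _ e).mapIso ((Stk.restr (AlgSt.ofOverCat T) _).mapIso i.symm)) ≪≫
      (Stk.restr ψ _).mapIso ((postB _ (fpSnd y f)).mapIso c₀) ≪≫ eqToIso (based_ext rfl)

/-- a section gives an object lifting the given one -/
theorem secObj_comp (m : T ⟶ U) (s : (AlgSp.yon S).obj T ⟶ F)
    (hs : s ≫ AlgSt.spMapOfOver (BasedFunctor.comp e (fpFst y f)) = (AlgSp.yon S).map m) :
    Nonempty (BasedFunctor.comp (secObj e s) f ≅ BasedFunctor.comp (AlgSt.overMap m) y) := by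
  obtain ⟨i⟩ := spMapOfOver_iso (BasedFunctor.comp e (fpFst y f))
  refine ⟨((Stk.restr (BasedFunctor.comp (BasedFunctor.comp (AlgSt.ofOverCat T) (AlgSt.ofSpMap s)) e) _).mapIso
    (fpIso y f).symm) ≪≫ (postB _ y).mapIso
      ((Stk.restr (BasedFunctor.comp (AlgSt.ofOverCat T) (AlgSt.ofSpMap s)) _).mapIso i ≪≫ eqToIso ?_)⟩
  show BasedFunctor.comp (BasedFunctor.comp (AlgSt.ofOverCat T)
    (BasedFunctor.comp (AlgSt.ofSpMap s) (AlgSt.ofSpMap _))) (AlgSt.toOverCat U) = _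
  rw [show BasedFunctor.comp (AlgSt.ofSpMap s) (AlgSt.ofSpMap _) = AlgSt.ofSpMap ((AlgSp.yon S).map m) from
    (ofSpMap_comp s _).trans (congrArg AlgSt.ofSpMap hs), ← ofOver_overMap]
  rfl

/-- residual points of a smooth space over a stack lift along henselian local rings -/
theorem exists_lift_stack {𝒵 : AlgSt.Cat S} (Z : AlgSp.Space S) (f : AlgSt.ofSp Z.obj ⥤ᵇ 𝒵)
    (hf : AlgSt.RepByAlgSpWith (AlgSp.LocP @Smooth) f)
    (R : Type u) [CommRing R] [HenselianLocalRing R] (str : Spec (CommRingCat.of R) ⟶ S)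
    (z : overCat (Over.mk str) ⥤ᵇ 𝒵)
    (z₀ : (AlgSp.yon S).obj (Over.mk (Spec.map (CommRingCat.ofHom (IsLocalRing.residue R)) ≫ str)) ⟶ Z.obj)
    (w : Nonempty (BasedFunctor.comp (BasedFunctor.comp (AlgSt.ofOverCat _) (AlgSt.ofSpMap z₀)) f ≅
      BasedFunctor.comp (AlgSt.overMap (clIncl str)) z)) :
    ∃ z' : (AlgSp.yon S).obj (Over.mk str) ⟶ Z.obj,
      (AlgSp.yon S).map (clIncl str) ≫ z' = z₀ ∧
        Nonempty (BasedFunctor.comp (BasedFunctor.comp (AlgSt.ofOverCat (Over.mk str)) (AlgSt.ofSpMap z')) f ≅ z) := by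
  obtain ⟨F, e, he, hP⟩ := hf (Over.mk str) z
  obtain ⟨j⟩ := w
  obtain ⟨s₀, hs₀, ⟨k₀⟩⟩ := exists_sec_iso e he (clIncl str) _ j
  obtain ⟨s, hs1, hs2⟩ := exists_space_section F.property _ hP s₀ hs₀
  let Φ : AlgSt.ofSp ((AlgSp.yon S).obj (Over.mk str)) ⥤ᵇ AlgSt.ofSp Z.obj :=
    BasedFunctor.comp (BasedFunctor.comp (AlgSt.ofSpMap s) e) (fpSnd z f)
  obtain ⟨i⟩ := spHom_iso Φ
  refine ⟨spHom Φ, ?_, ?_⟩
  · rw [← spHom_ofSpMap ((AlgSp.yon S).map (clIncl str)), ← spHom_comp, ← spHom_ofSpMap z₀]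
    refine spHom_congr ?_
    have e1 : BasedFunctor.comp (AlgSt.ofSpMap ((AlgSp.yon S).map (clIncl str))) Φ =
        BasedFunctor.comp (AlgSt.toOverCat _) (secObj e s₀) := by
      rw [← hs2]; rfl
    exact eqToHom e1 ≫ (Stk.restr (AlgSt.toOverCat _) _).map k₀.hom
  · obtain ⟨k⟩ := secObj_comp e (𝟙 (Over.mk str)) s (hs1.trans (CategoryTheory.Functor.map_id _ _).symm)
    refine ⟨(postB _ f).mapIso ((Stk.restr (AlgSt.ofOverCat _) _).mapIso i.symm) ≪≫ k ≪≫ eqToIso ?_⟩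
    exact based_ext (by show Over.map (𝟙 (Over.mk str)) ⋙ z.toFunctor = _; rw [Over.mapId_eq]; rfl)

end Groth.Agent.Desc19b.HensSp
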