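import Groth.Agent.Desc19b.HensSp.Family
import Groth.Agent.Stk19b.PointLift
import Groth.Agent.Desc19b.HensSp.StackSec
import Groth.Agent.VarietyLib.SeparablePoints

/-!
A small family of affine smooth charts of an algebraic stack through which every field valued point lifts.
-/

set_option autoImplicit false
set_option backward.isDefEq.respectTransparency false
set_option backward.isDefEq.respectTransparency.types false

universe u

open CategoryTheory CategoryTheory.Limits AlgebraicGeometry Opposite FibCat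
open Groth.Agent.Stk19 Groth.Agent.Desc19 Groth.Agent.AlgSpLib

noncomputable section

namespace Groth.Agent.Desc19b.HensSp

variable {S : Scheme.{u}} {𝒵 : AlgSt.Cat S}

/-- a field valued point lifts to the atlas over an extension -/
theorem exists_atlas_lift (h𝒵 : IsFibGrpd 𝒵.p) {U₀ : Over S} (a₀ : overCat U₀ ⥤ᵇ 𝒵)
    (hs : AlgSt.RepByAlgSpWith AlgSp.IsSurjectiveMor a₀) (k : Type u) [Field k]
    (str : Spec (CommRingCat.of k) ⟶ S) (z : overCat (Over.mk str) ⥤ᵇ 𝒵) :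
    ∃ (L : Type u) (_ : Field L) (strL : Spec (CommRingCat.of L) ⟶ S) (φ : Over.mk strL ⟶ Over.mk str)
      (d : Over.mk strL ⟶ U₀),
      Nonempty (BasedFunctor.comp (AlgSt.overMap d) a₀ ≅ BasedFunctor.comp (AlgSt.overMap φ) z) := by
  obtain ⟨t, ht⟩ := ofChart_surjective h𝒵 hs (AlgSt.Points.mk
    { K := k, str := str, obj := z.obj (Over.mk (𝟙 (Over.mk str))), lies := z.w_obj _ })
  rw [AlgSt.Points.ofChart, points_mk_eq_iff h𝒵] at ht
  obtain ⟨r, bb, aa, -⟩ := ht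
  let τ : Over.mk (U₀.left.fromSpecResidueField t ≫ U₀.hom) ⟶ U₀ := Over.homMk (U₀.left.fromSpecResidueField t) rfl
  obtain ⟨F, i, hi⟩ := exists_classifying h𝒵 r.obj r.lies
  have hi' : 𝒵.p.map i.hom = eqToHom ((F.w_obj (Over.mk (𝟙 (Over.mk r.str)))).trans r.lies.symm) := by
    exact map_eq_of_vert 𝒵.p (R := Over.mk r.str) i.hom
  let φ : Over.mk r.str ⟶ Over.mk str := eqToHom r.lies.symm ≫ 𝒵.p.map aa ≫ eqToHom (z.w_obj _)
  let bb' : r.obj ⟶ a₀.obj (Over.mk (𝟙 U₀)) := bb ≫ a₀.map (Over.homMk τ (Category.comp_id _) : Over.mk τ ⟶ Over.mk (𝟙 U₀))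
  let d : Over.mk r.str ⟶ U₀ := eqToHom r.lies.symm ≫ 𝒵.p.map bb' ≫ eqToHom (a₀.w_obj _)
  obtain ⟨i₁⟩ := exists_iso_overMap h𝒵 φ z F (i.hom ≫ aa) (by
    rw [𝒵.p.map_comp, hi']
    simp [φ])
  obtain ⟨i₂⟩ := exists_iso_overMap h𝒵 d a₀ F (i.hom ≫ bb') (by
    rw [𝒵.p.map_comp, hi']
    simp [d])
  exact ⟨r.K, inferInstance, r.str, φ, d, ⟨i₂.symm ≪≫ i₁⟩⟩

/-- the affine line over an affine open, mapped to the base scheme -/
abbrev lineOver {U₀ : Over S} (O : U₀.left.affineOpens) : Over S :=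
  Over.mk (Spec.map (CommRingCat.ofHom (Polynomial.C : Γ(U₀.left, O.1) →+* _)) ≫ O.2.fromSpec ≫ U₀.hom)

/-- field valued points lift to a small family of affine smooth charts -/
theorem exists_smooth_charts (h𝒵 : AlgSt.IsAlgStack Scheme.fppfPrecoverage 𝒵) :
    ∃ (ι : Type u) (V : ι → Over S) (p : ∀ i, overCat (V i) ⥤ᵇ 𝒵),
      (∀ i, IsAffine (V i).left) ∧ (∀ i, AlgSt.RepByAlgSpWith (AlgSp.LocP @Smooth) (p i)) ∧
      ∀ (k : Type u) [Field k] (str : Spec (CommRingCat.of k) ⟶ S) (z : overCat (Over.mk str) ⥤ᵇ 𝒵),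
        ∃ (i : ι) (v : Over.mk str ⟶ V i), Nonempty (BasedFunctor.comp (AlgSt.overMap v) (p i) ≅ z) := by
  classical
  obtain ⟨U₀, a₀, ha₀, has₀⟩ := h𝒵.atlas
  let c : ∀ O : U₀.left.affineOpens, lineOver O ⟶ U₀ := fun O =>
    Over.homMk (Spec.map (CommRingCat.ofHom (Polynomial.C : Γ(U₀.left, O.1) →+* _)) ≫ O.2.fromSpec)
      (Category.assoc _ _ _)
  have hc : ∀ O, Smooth (c O).left := fun O => by
    have : Smooth (Spec.map (CommRingCat.ofHom (Polynomial.C : Γ(U₀.left, O.1) →+* _))) :=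
      HasRingHomProperty.Spec_iff.2 (by
        show (algebraMap Γ(U₀.left, O.1) (Polynomial Γ(U₀.left, O.1))).Smooth
        exact RingHom.smooth_algebraMap.2 ⟨inferInstance, inferInstance⟩)
    exact (inferInstance : Smooth (Spec.map (CommRingCat.ofHom (Polynomial.C : Γ(U₀.left, O.1) →+* _)) ≫ O.2.fromSpec))
  let J := Σ (_ : U₀.left.affineOpens) (n : ℕ), Group (ULift.{u} (Fin (n + 1)))
  have hfam := fun (x : J) =>
    letI := x.2.2
    have : IsAffine (lineOver x.1).left := inferInstanceAs (IsAffine (Spec _))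
    exists_charts_group h𝒵 (BasedFunctor.comp (AlgSt.overMap (c x.1)) a₀)
      (with_comp_chart etLocal_smooth (c x.1) (hc x.1) ha₀)
      ((Scheme.ΓSpecIso _).inv.hom (Polynomial.X : Polynomial Γ(U₀.left, x.1.1)) : Γ((lineOver x.1).left, ⊤))
      (ULift.{u} (Fin (x.2.1 + 1)))
  choose κ V p hV hp hlift using hfam
  refine ⟨Σ x : J, κ x, fun i => V i.1 i.2, fun i => p i.1 i.2, fun i => hV _ _, fun i => hp _ _, ?_⟩
  intro k _ str z
  obtain ⟨L, _, strL, φ, d, ⟨i₀⟩⟩ := exists_atlas_lift h𝒵.isStack.1 a₀ has₀ k str z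
  obtain ⟨O, hO, hdO, -⟩ := exists_isAffineOpen_mem_and_subset (x := d.left (IsLocalRing.closedPoint L)) (U := ⊤) trivial
  let O' : U₀.left.affineOpens := ⟨O, hO⟩
  let UO : Over S := Over.mk (hO.fromSpec ≫ U₀.hom)
  let jO : UO ⟶ U₀ := Over.homMk hO.fromSpec
  have : IsOpenImmersion jO.left := inferInstanceAs (IsOpenImmersion hO.fromSpec)
  let aO := BasedFunctor.comp (AlgSt.overMap jO) a₀
  have haO : AlgSt.RepByAlgSpWith (AlgSp.LocP @Smooth) aO :=
    with_comp_chart etLocal_smooth jO (inferInstance : Smooth jO.left) ha₀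
  have hr : Set.range d.left ⊆ Set.range jO.left := by
    rintro _ ⟨y, rfl⟩
    rw [Subsingleton.elim (α := ↥(Spec (CommRingCat.of L))) y (IsLocalRing.closedPoint L)]
    show _ ∈ Set.range hO.fromSpec
    rw [hO.range_fromSpec]
    exact hdO
  let d' : Over.mk strL ⟶ UO := Over.homMk (IsOpenImmersion.lift jO.left d.left hr) (by
    rw [← Over.w jO, ← Category.assoc, IsOpenImmersion.lift_fac]; exact Over.w d)
  have hd' : d' ≫ jO = d := Over.OverMorphism.ext (IsOpenImmersion.lift_fac _ _ _)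
  obtain ⟨l⟩ := overMap_comp d' jO
  -- the fibre is a smooth nonempty space over the field
  obtain ⟨F, e, he, hP⟩ := haO (Over.mk str) z
  obtain ⟨sL, hsL⟩ := Stk19b.exists_sec_of_obj e φ he (AlgSt.overMap d')
    ⟨(postB _ a₀).mapIso (l ≪≫ eqToIso (by rw [hd'])) ≪≫ i₀⟩
  obtain ⟨κF, VF, fF, hVF, hfF, hliftF⟩ := exists_rat_charts F.property
  obtain ⟨iF, vF, hvF⟩ := hliftF L strL sL
  obtain ⟨g, hg⟩ := (AlgSp.yon S).map_surjective (fF iF ≫ AlgSt.spMapOfOver (BasedFunctor.comp e (fpFst z aO)))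
  have hgs : Smooth g.left := (AlgSp.repWith_yon_map_iff @Smooth g).1 (hg ▸
    repWith_comp_of_locP etLocal_smooth (AlgSp.IsAlgSpace.yon_obj _) hP (fF iF) (hfF iF))
  have := hVF iF
  obtain ⟨γ, hγ⟩ := Spec.map_surjective ((VF iF).left.isoSpec.inv ≫ g.left)
  have hγs : γ.hom.Smooth := (HasRingHomProperty.Spec_iff (P := @Smooth)).mp
    (hγ ▸ (inferInstance : Smooth ((VF iF).left.isoSpec.inv ≫ g.left)))
  have : Nonempty (Spec Γ((VF iF).left, ⊤)) := ⟨(VF iF).left.isoSpec.hom (vF.left (IsLocalRing.closedPoint L))⟩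
  have : Nontrivial Γ((VF iF).left, ⊤) := PrimeSpectrum.nonempty_iff_nontrivial.1 this
  algebraize [(γ.hom : k →+* Γ((VF iF).left, ⊤))]
  obtain ⟨Ω, _, _, _, _, ⟨gΩ⟩⟩ := VarietyLib.exists_separable_point k Γ((VF iF).left, ⊤)
  let f₁ : Ω →ₐ[k] SeparableClosure k := IsSepClosed.lift
  let : Algebra Ω (SeparableClosure k) := f₁.toRingHom.toAlgebra
  have : IsScalarTower k Ω (SeparableClosure k) := IsScalarTower.of_algebraMap_eq fun r => (f₁.commutes r).symm
  let K := IntermediateField.normalClosure k Ω (SeparableClosure k)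
  let f₂ : Ω →ₐ[k] K := f₁.codRestrict K.toSubalgebra fun y => f₁.fieldRange_le_normalClosure ⟨y, rfl⟩
  have hK : IsGalois k K := IsGalois.normalClosure k Ω (SeparableClosure k)
  let gK : Γ((VF iF).left, ⊤) →ₐ[k] K := f₂.comp gΩ
  let P₁ : specOver str K ⟶ VF iF := Over.homMk (Spec.map (CommRingCat.ofHom gK.toRingHom) ≫ (VF iF).left.isoSpec.inv) (by
    show (_ ≫ _) ≫ (VF iF).hom = Spec.map (CommRingCat.ofHom (algebraMap k K)) ≫ str
    rw [← Over.w g, Category.assoc, ← Category.assoc _ g.left, ← hγ]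
    show _ ≫ _ ≫ str = _
    rw [← Spec.map_comp_assoc]
    congr 2
    exact CommRingCat.hom_ext (RingHom.ext gK.commutes))
  have hP₁ : P₁ ≫ g = specHom str K := Over.OverMorphism.ext (by
    show (Spec.map _ ≫ (VF iF).left.isoSpec.inv) ≫ g.left = Spec.map (CommRingCat.ofHom (algebraMap k K))
    rw [Category.assoc, ← hγ, ← Spec.map_comp]
    congr 1
    exact CommRingCat.hom_ext (RingHom.ext gK.commutes))
  obtain ⟨jK⟩ := secObj_comp e (specHom str K) ((AlgSp.yon S).map P₁ ≫ fF iF) (by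
    rw [Category.assoc, ← hg, ← Functor.map_comp, hP₁])
  obtain ⟨u₁, ⟨iu⟩⟩ := exists_overMap_iso (secObj e ((AlgSp.yon S).map P₁ ≫ fF iF))
  -- a primitive element and the point of the affine line
  obtain ⟨α, hα⟩ := Field.exists_primitive_element k K
  obtain ⟨μ, hμ⟩ := Spec.map_surjective (R := Γ(U₀.left, O)) (S := CommRingCat.of K) u₁.left
  let u : specOver str K ⟶ lineOver O' := Over.homMk
    (Spec.map (CommRingCat.ofHom (Polynomial.eval₂RingHom μ.hom α))) (by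
      show Spec.map _ ≫ Spec.map _ ≫ hO.fromSpec ≫ U₀.hom = _
      rw [← Spec.map_comp_assoc, show CommRingCat.ofHom (Polynomial.C : Γ(U₀.left, O) →+* _) ≫
        CommRingCat.ofHom (Polynomial.eval₂RingHom μ.hom α) = μ from CommRingCat.hom_ext (RingHom.ext fun r => by simp), hμ]
      exact Over.w u₁)
  have huc : u ≫ c O' = u₁ ≫ jO := Over.OverMorphism.ext (by
    show Spec.map _ ≫ Spec.map _ ≫ hO.fromSpec = u₁.left ≫ hO.fromSpec
    rw [← Spec.map_comp_assoc, show CommRingCat.ofHom (Polynomial.C : Γ(U₀.left, O) →+* _) ≫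
        CommRingCat.ofHom (Polynomial.eval₂RingHom μ.hom α) = μ from CommRingCat.hom_ext (RingHom.ext fun r => by simp), hμ])
  obtain ⟨l₁⟩ := overMap_comp u (c O')
  obtain ⟨l₂⟩ := overMap_comp u₁ jO
  have ju : BasedFunctor.comp (AlgSt.overMap u) (BasedFunctor.comp (AlgSt.overMap (c O')) a₀) ≅
      BasedFunctor.comp (AlgSt.overMap (specHom str K)) z :=
    (postB _ a₀).mapIso (l₁ ≪≫ eqToIso (by rw [huc]) ≪≫ l₂.symm) ≪≫
      (postB _ aO).mapIso iu.symm ≪≫ jK
  -- the group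
  obtain ⟨n, hn⟩ : ∃ n, Fintype.card (K ≃ₐ[k] K) = n + 1 :=
    ⟨Fintype.card (K ≃ₐ[k] K) - 1, (Nat.succ_pred_eq_of_pos Fintype.card_pos).symm⟩
  let e₀ : ULift.{u} (Fin (n + 1)) ≃ (K ≃ₐ[k] K) := Equiv.ulift.trans (Fintype.equivFinOfCardEq hn).symm
  let grp : Group (ULift.{u} (Fin (n + 1))) := e₀.group
  let x : J := ⟨O', n, grp⟩
  let ε : @MulEquiv (ULift.{u} (Fin (n + 1))) (K ≃ₐ[k] K) grp.toMulOneClass.toMul _ :=
    @MulEquiv.mk (ULift.{u} (Fin (n + 1))) (K ≃ₐ[k] K) grp.toMulOneClass.toMul _ e₀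
      (fun a b => e₀.apply_symm_apply (e₀ a * e₀ b))
  have hval : ∀ gg : ULift.{u} (Fin (n + 1)), (specMap str (e₀ gg).toAlgHom ≫ u).left.appTop.hom
      ((Scheme.ΓSpecIso _).inv.hom (Polynomial.X : Polynomial Γ(U₀.left, O))) =
      (Scheme.ΓSpecIso (CommRingCat.of K)).inv.hom (e₀ gg α) := fun gg => by
    have e1 : (specMap str (e₀ gg).toAlgHom ≫ u).left = Spec.map (CommRingCat.ofHom
        ((e₀ gg).toAlgHom.toRingHom.comp (Polynomial.eval₂RingHom μ.hom α))) := by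
      show Spec.map _ ≫ Spec.map _ = _
      rw [← Spec.map_comp]
      rfl
    rw [e1]
    have h := RingHom.congr_fun (congrArg CommRingCat.Hom.hom (Scheme.ΓSpecIso_inv_naturality
      (CommRingCat.ofHom ((e₀ gg).toAlgHom.toRingHom.comp (Polynomial.eval₂RingHom μ.hom α))))) Polynomial.X
    simp only [CommRingCat.hom_comp, RingHom.comp_apply] at h
    refine h.symm.trans (congrArg _ ?_)
    show (e₀ gg) (Polynomial.eval₂RingHom μ.hom α Polynomial.X) = e₀ gg α
    exact congrArg (e₀ gg) (Polynomial.eval₂_X _ _)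
  obtain ⟨i, v, hv⟩ := @hlift x k K _ _ _ _ _ str ε z u ju fun g h hgh => by
    show IsUnit ((specMap str (e₀ g).toAlgHom ≫ u).left.appTop.hom
      ((Scheme.ΓSpecIso _).inv.hom (Polynomial.X : Polynomial Γ(U₀.left, O))) -
      (specMap str (e₀ h).toAlgHom ≫ u).left.appTop.hom
      ((Scheme.ΓSpecIso _).inv.hom (Polynomial.X : Polynomial Γ(U₀.left, O))))
    rw [hval, hval]
    refine (congrArg IsUnit (map_sub (Scheme.ΓSpecIso (CommRingCat.of K)).inv.hom _ _)).mp ?_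
    refine (isUnit_iff_ne_zero.2 fun h0 => hgh (e₀.injective ?_)).map _
    have hadj : Algebra.adjoin k ({α} : Set K) = ⊤ := by
      rw [← IntermediateField.adjoin_simple_toSubalgebra_of_isAlgebraic (Algebra.IsAlgebraic.isAlgebraic α), hα,
        IntermediateField.top_toSubalgebra]
    refine AlgEquiv.ext fun y => DFunLike.congr_fun (AlgHom.ext_of_adjoin_eq_top hadj
      (φ₁ := (e₀ g).toAlgHom) (φ₂ := (e₀ h).toAlgHom) fun y hy => ?_) y
    rw [Set.mem_singleton_iff] at hy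
    subst hy
    exact sub_eq_zero.1 h0
  exact ⟨⟨x, i⟩, v, hv⟩

end Groth.Agent.Desc19b.HensSp
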