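import Groth.Agent.Desc19b.HensSp.FibreProd
import Mathlib.AlgebraicGeometry.Morphisms.Affine

/-!
The fibre product of the translates of an etale chart, and affine opens stable under a finite group.
-/

set_option autoImplicit false

universe u

open CategoryTheory CategoryTheory.Limits AlgebraicGeometry Opposite
open AlgSp Groth.Agent.AlgSpLib

noncomputable section

namespace Groth.Agent.Desc19b.HensSp

set_option backward.isDefEq.respectTransparency.types false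

variable {S : Scheme.{u}} {G : Type u} [Group G] [Finite G]

/-- the fibre product of the translates of a chart with the action of the group -/
theorem exists_orbit_scheme {W : Sp S} {V₀ : Over S} [IsAffine V₀.left] (f₀ : (yon S).obj V₀ ⟶ W)
    (hf₀ : RepWith @Etale f₀) (s : G → (W ⟶ W)) (hsm : ∀ x y, s x ≫ s y = s (y * x)) (hs1 : s 1 = 𝟙 W) :
    ∃ (Y : Over S) (q : (yon S).obj Y ⟶ W) (c : G → (Y ⟶ V₀)) (ρ : G → (Y ⟶ Y)),
      Y.left.IsSeparated ∧ RepWith @Etale q ∧ (∀ g, (yon S).map (c g) ≫ f₀ ≫ s g = q) ∧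
      ρ 1 = 𝟙 Y ∧ (∀ g h, ρ g ≫ ρ h = ρ (g * h)) ∧ (∀ g, (yon S).map (ρ g) ≫ q = q ≫ s g⁻¹) ∧
      (∀ g h, ρ g ≫ c h = c (g * h)) ∧
      ∀ (T : Over S) (f : G → (T ⟶ V₀)),
        (∀ g h, (yon S).map (f g) ≫ f₀ ≫ s g = (yon S).map (f h) ≫ f₀ ≫ s h) → ∃! m : T ⟶ Y, ∀ g, m ≫ c g = f g := by
  classical
  have := Fintype.ofFinite G
  obtain ⟨n, hn⟩ : ∃ n, Fintype.card G = n + 1 := ⟨Fintype.card G - 1, (Nat.succ_pred_eq_of_pos Fintype.card_pos).symm⟩
  let en : G ≃ Fin (n + 1) := Fintype.equivFinOfCardEq hn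
  have : ∀ g, IsIso (s g) := fun g => ⟨s g⁻¹, by rw [hsm, inv_mul_cancel, hs1], by rw [hsm, mul_inv_cancel, hs1]⟩
  have hfs : ∀ g, RepWith @Etale (f₀ ≫ s g) := fun g => by
    rw [MorphismProperty.cancel_right_of_respectsIso (RepWith @Etale)]
    exact hf₀
  obtain ⟨Y, q, c₀, A, φ, hq, hc₀, hA, hφ, huniv⟩ :=
    exists_fibreProd (X := W) n (fun i => f₀ ≫ s (en.symm i)) (fun i => hfs _)
  have hsep : Y.left.IsSeparated := ⟨by
    have : IsSeparated φ := inferInstance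
    rw [← terminal.comp_from φ]; infer_instance⟩
  let c : G → (Y ⟶ V₀) := fun g => c₀ (en g)
  have hc : ∀ g, (yon S).map (c g) ≫ f₀ ≫ s g = q := fun g => by
    simpa using hc₀ (en g)
  have huniv' : ∀ (T : Over S) (f : G → (T ⟶ V₀)),
      (∀ g h, (yon S).map (f g) ≫ f₀ ≫ s g = (yon S).map (f h) ≫ f₀ ≫ s h) → ∃! m : T ⟶ Y, ∀ g, m ≫ c g = f g := by
    intro T f hf
    obtain ⟨m, hm, hu⟩ := huniv T (fun i => f (en.symm i)) fun i j => hf _ _
    exact ⟨m, fun g => (hm (en g)).trans (congrArg f (en.symm_apply_apply g)), fun m' hm' => hu m' fun i => by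
      have := hm' (en.symm i)
      simp only [c, Equiv.apply_symm_apply] at this
      exact this⟩
  have hρ : ∀ g, ∃ ρ : Y ⟶ Y, ∀ h, ρ ≫ c h = c (g * h) := fun g => by
    refine (huniv' Y (fun h => c (g * h)) fun h h' => ?_).exists
    have e : ∀ h, (yon S).map (c (g * h)) ≫ f₀ ≫ s h = q ≫ s g⁻¹ := fun h => by
      rw [← hc (g * h)]
      simp only [Category.assoc, hsm, inv_mul_cancel_left]
    rw [e, e]
  choose ρ hρ using hρ
  refine ⟨Y, q, c, ρ, hsep, hq, hc, ?_, fun g h => ?_, fun g => ?_, hρ, huniv'⟩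
  · exact (huniv' Y c fun g h => (hc g).trans (hc h).symm).unique (fun h => by rw [hρ, one_mul])
      (fun h => Category.id_comp _)
  · refine (huniv' Y (fun k => c (g * h * k)) fun k k' => ?_).unique
      (fun k => by rw [Category.assoc, hρ, hρ, mul_assoc]) (fun k => hρ _ _)
    have e : ∀ k, (yon S).map (c (g * h * k)) ≫ f₀ ≫ s k = q ≫ s (g * h)⁻¹ := fun k => by
      rw [← hc (g * h * k)]
      simp only [Category.assoc, hsm, inv_mul_cancel_left]
    rw [e, e]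
  · conv_lhs => rw [← hc 1]
    rw [← Functor.map_comp_assoc, hρ, mul_one, ← hc g]
    simp only [Category.assoc, hsm, inv_mul_cancel]

/-- an affine open stable under the group, cut out of a given one -/
theorem exists_stable_affine {Y : Over S} (hY : Y.left.IsSeparated) (ρ : G → (Y ⟶ Y)) (hρ1 : ρ 1 = 𝟙 Y)
    (hρm : ∀ g h, ρ g ≫ ρ h = ρ (g * h)) (O₀ : Y.left.affineOpens) :
    ∃ (O : Over S) (ι : O ⟶ Y) (τ : G → (O ⟶ O)), IsAffine O.left ∧ IsOpenImmersion ι.left ∧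
      Set.range ι.left = ⋂ g, (ρ g).left ⁻¹' O₀.1 ∧ τ 1 = 𝟙 O ∧ (∀ g h, τ g ≫ τ h = τ (g * h)) ∧
      ∀ g, τ g ≫ ι = ι ≫ ρ g := by
  have : ∀ g, IsIso (ρ g).left := fun g => ⟨(ρ g⁻¹).left,
    by rw [← Over.comp_left, hρm, mul_inv_cancel, hρ1]; rfl, by rw [← Over.comp_left, hρm, inv_mul_cancel, hρ1]; rfl⟩
  have := hY.isSeparated_terminal_from
  let O₁ : Y.left.Opens := ⨅ g, (ρ g).left ⁻¹ᵁ O₀.1
  have hO₁ : IsAffineOpen O₁ := IsAffineOpen.iInf fun g => O₀.2.preimage_of_isIso (ρ g).left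
  have hset : (O₁ : Set Y.left) = ⋂ g, (ρ g).left ⁻¹' O₀.1 := by
    show ((⨅ g, (ρ g).left ⁻¹ᵁ O₀.1 : Y.left.Opens) : Set Y.left) = _
    rw [TopologicalSpace.Opens.coe_iInf]
    rfl
  let O : Over S := Over.mk (O₁.ι ≫ Y.hom)
  let ι : O ⟶ Y := Over.homMk O₁.ι
  have hι : IsOpenImmersion ι.left := inferInstanceAs (IsOpenImmersion O₁.ι)
  have hιm : Mono ι := (Over.forget S).mono_of_mono_map (inferInstanceAs (Mono O₁.ι))
  have hr : Set.range ι.left = ⋂ g, (ρ g).left ⁻¹' O₀.1 := (Scheme.Opens.range_ι O₁).trans hset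
  have hτ : ∀ g, ∃ τ : O ⟶ O, τ ≫ ι = ι ≫ ρ g := fun g => by
    have h1 : Set.range (ι ≫ ρ g).left ⊆ Set.range ι.left := by
      rintro _ ⟨x, rfl⟩
      rw [hr]
      refine Set.mem_iInter.2 fun h => ?_
      have hx : ι.left x ∈ ⋂ k, (ρ k).left ⁻¹' (O₀.1 : Set Y.left) := hr ▸ ⟨x, rfl⟩
      have := Set.mem_iInter.1 hx (g * h)
      rw [← hρm g h] at this
      exact this
    exact ⟨Over.homMk (IsOpenImmersion.lift ι.left _ h1) (by
      rw [← Over.w ι, ← Category.assoc, IsOpenImmersion.lift_fac]; exact Over.w (ι ≫ ρ g)),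
      Over.OverMorphism.ext (IsOpenImmersion.lift_fac _ _ _)⟩
  choose τ hτ using hτ
  refine ⟨O, ι, τ, hO₁, hι, hr, (cancel_mono ι).1 ?_, fun g h => (cancel_mono ι).1 ?_, hτ⟩
  · rw [hτ, hρ1, Category.comp_id, Category.id_comp]
  · rw [Category.assoc, hτ, reassoc_of% (hτ g), hρm, hτ]

end Groth.Agent.Desc19b.HensSp
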