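import Groth.Agent.Desc19b.HensSp.Act
import Groth.Agent.Desc19b.HensSp.Orbit
import Groth.Agent.Desc19b.HensSp.Cover
import Groth.Agent.Desc19b.HensSp.Descent
import Groth.Agent.AlgSpLib.ValuationDescent
import Groth.Agent.AlgSpLib.SmoothSpace
import Groth.Agent.Stk19.AlgSt.SrcLocal
import Mathlib.FieldTheory.Galois.Basic

/-!
Smooth charts descended along free quotients, and Galois descent of arrows.
-/

set_option autoImplicit false
set_option backward.isDefEq.respectTransparency false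
set_option backward.isDefEq.respectTransparency.types false

universe u

open CategoryTheory CategoryTheory.Limits AlgebraicGeometry Opposite FibCat
open Groth.Agent.Stk19 Groth.Agent.Desc19 Groth.Agent.AlgSpLib

noncomputable section

namespace Groth.Agent.Desc19b.HensSp

variable {S : Scheme.{u}} {𝒵 : AlgSt.Cat S}

theorem with_surjective_overMap {W U : Over S} (p : W ⟶ U) (h : Surjective p.left) :
    AlgSt.RepByAlgSpWith AlgSp.IsSurjectiveMor (AlgSt.overMap p) := by
  refine (repByAlgSpWith_iff_of_square (f' := AlgSt.overMap p) (f := AlgSt.ofSpMap ((AlgSp.yon S).map p))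
    (a := AlgSt.ofOverCat W) (b := AlgSt.ofOverCat U) (isEquivOver_ofOverCat W) (isEquivOver_ofOverCat U)
    (eqToIso (ofOver_overMap p))).2 ?_
  exact repByAlgSpWith_ofSpMap pbStable_surjective (V := ⟨_, AlgSp.IsAlgSpace.yon_obj W⟩)
    (Z := ⟨_, AlgSp.IsAlgSpace.yon_obj U⟩) _ (surjective_yon p.left.surjective)

/-- smoothness descends along etale covers of the chart -/
theorem smooth_of_etale_cover (h𝒵 : AlgSt.IsAlgStack Scheme.fppfPrecoverage 𝒵) {Y V : Over S} (π : Y ⟶ V)
    [Etale π.left] [Surjective π.left] (p : overCat V ⥤ᵇ 𝒵) (F : overCat Y ⥤ᵇ 𝒵)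
    (hF : AlgSt.RepByAlgSpWith (AlgSp.LocP @Smooth) F) (i : F ≅ BasedFunctor.comp (AlgSt.overMap π) p) :
    AlgSt.RepByAlgSpWith (AlgSp.LocP @Smooth) p := by
  have hx₁ := with_overMap etLocal_smooth π (inferInstance : Smooth π.left)
  exact with_of_comp_cover (respSrc_locP etLocal_smooth) isLocalOnSource_smooth_smooth (isFibGrpd_overCat Y)
    (isFibGrpd_overCat V) (repByAlgSp1_of_with hx₁)
    (repByAlgSp1_of_diag h𝒵.isStack.1 h𝒵.diag (repByAlgSp_overCat V) p)
    (fun {V₁ W} z a {e} he j => ⟨fun _ => rep_locP etLocal_smooth hx₁ z he j,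
      fun w => ⟨PUnit.unit, rep_surjective (with_surjective_overMap π inferInstance) z he j w⟩⟩)
    (repByAlgSpWith_of_iso i hF)

variable {U : Over S} {a : overCat U ⥤ᵇ 𝒵} {G : Type u} [Group G] [Finite G]

/-- families over etale schemes over the fibre power are smooth -/
theorem smooth_sheet_forget (h𝒵 : AlgSt.IsAlgStack Scheme.fppfPrecoverage 𝒵)
    (ha : AlgSt.RepByAlgSpWith (AlgSp.LocP @Smooth) a) (W : AlgSp.Space S) (e : AlgSt.ofSp W.obj ⥤ᵇ pw a G)
    (he : IsEquivOver e) {Y : Over S} (q : (AlgSp.yon S).obj Y ⟶ W.obj) (hq : AlgSp.RepWith @Etale q) :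
    AlgSt.RepByAlgSpWith (AlgSp.LocP @Smooth) (BasedFunctor.comp (sheet e q) (pwForget a G)) := by
  obtain ⟨hf, hrep⟩ := with_pwForget h𝒵.isStack.1 ha G
  refine with_comp_locP etLocal_smooth (fibGrpd_pw (hrep ⟨1⟩)) ?_ hf
  exact with_comp_equiv he (with_equiv_comp (isEquivOver_ofOverCat Y)
    (repByAlgSpWith_ofSpMap (pbStable_locP etLocal_smooth) (V := ⟨_, AlgSp.IsAlgSpace.yon_obj Y⟩) q
      (locP_of_repWith etLocal_smooth (AlgSp.IsAlgSpace.yon_obj Y) (RepWith.mono etLocal_smooth.of_etale hq))))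

/-- invariant arrows descend along finite Galois extensions -/
theorem exists_hom_galois (h𝒵 : AlgSt.IsAlgStack Scheme.fppfPrecoverage 𝒵) {k K : Type u} [Field k] [Field K]
    [Algebra k K] [FiniteDimensional k K] [IsGalois k K] (str : Spec (CommRingCat.of k) ⟶ S)
    (ε : G ≃* (K ≃ₐ[k] K)) (θ : Γ((specOver str K).left, ⊤))
    (hθ : ∀ g h, g ≠ h → IsUnit ((specMap str (ε g).toAlgHom).left.appTop.hom θ -
      (specMap str (ε h).toAlgHom).left.appTop.hom θ))
    (x : 𝒵.obj) (hx : 𝒵.p.obj x = specOver str K) (α : G → (x ⟶ x))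
    (hα : ∀ g, 𝒵.p.map (α g) = eqToHom hx ≫ specMap str (ε g).toAlgHom ≫ eqToHom hx.symm)
    (hα1 : α 1 = 𝟙 x) (hαm : ∀ g h, α g ≫ α h = α (g * h))
    {y₁ y₂ : 𝒵.obj} (h₁ : 𝒵.p.obj y₁ = Over.mk str) (h₂ : 𝒵.p.obj y₂ = Over.mk str)
    (ν₁ : x ⟶ y₁) (ν₂ : x ⟶ y₂) (hν₁ : 𝒵.p.map ν₁ = eqToHom hx ≫ specHom str K ≫ eqToHom h₁.symm)
    (hν₂ : 𝒵.p.map ν₂ = eqToHom hx ≫ specHom str K ≫ eqToHom h₂.symm)
    (hi₁ : ∀ g, α g ≫ ν₁ = ν₁) (hi₂ : ∀ g, α g ≫ ν₂ = ν₂) :
    ∃ χ : y₁ ⟶ y₂, 𝒵.p.map χ = eqToHom (h₁.trans h₂.symm) := by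
  classical
  have := Fintype.ofFinite G
  have : IsAffine (specOver str K).left := inferInstanceAs (IsAffine (Spec _))
  let ψ : G → (specOver str K ⟶ specOver str K) := fun g => specMap str (ε g).toAlgHom
  have hψm : ∀ g h, ψ g ≫ ψ h = ψ (g * h) := fun g h => by
    rw [← specMap_comp]
    show specMap str _ = specMap str _
    rw [map_mul]
    rfl
  have hψ1 : ψ 1 = 𝟙 _ := by
    refine Over.OverMorphism.ext ?_
    show Spec.map _ = 𝟙 (Spec _)
    rw [map_one, ← Spec.map_id]
    rfl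
  let Δ : Deck (AlgSp.J S) 𝒵 G :=
    { T := Over.mk str
      x := x
      π := eqToHom hx ≫ specHom str K
      cov := by
        have : Flat (specHom str K).left := HasRingHomProperty.Spec_iff.2
          (RingHom.flat_algebraMap_iff.2 (inferInstance : Module.Flat k K))
        have : LocallyOfFinitePresentation (specHom str K).left := HasRingHomProperty.Spec_iff.2
          (RingHom.finitePresentation_algebraMap.2 (Algebra.FinitePresentation.of_finiteType.1 inferInstance))
        have : Surjective (specHom str K).left := ⟨fun x => ⟨IsLocalRing.closedPoint K, Subsingleton.elim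
          (α := ↥(Spec (CommRingCat.of k))) _ _⟩⟩
        exact mem_J_of_flat_lfp_surjective (specHom str K) ⟨_, eqToHom hx.symm, _, ⟨⟩, by simp⟩
      α := α
      α_one := hα1
      α_mul := hαm
      α_π := fun g => by
        rw [hα]; simp [specMap_comp_specHom]
      free := fun {T₀} t g g' e => free_of_unit ψ hψ1 hψm θ hθ (t ≫ eqToHom hx) g g' (by
        rw [hα, hα] at e
        simpa [ψ, ← cancel_mono (eqToHom hx.symm)] using e)
      loc := fun {T₀} t t' e => by
        have he : ∀ b, (∀ g, secMap ψ g b = b) →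
            (t ≫ eqToHom hx).left.appTop.hom b = (t' ≫ eqToHom hx).left.appTop.hom b := by
          intro b hb
          obtain ⟨b₀, rfl⟩ : ∃ b₀, (specHom str K).left.appTop.hom b₀ = b := by
            let eK := (Scheme.ΓSpecIso (CommRingCat.of K))
            have hfix : ∀ f : K ≃ₐ[k] K, f (eK.hom.hom b) = eK.hom.hom b := fun f => by
              obtain ⟨g, rfl⟩ := ε.surjective f
              have h2 := congrArg eK.hom.hom (hb g)
              exact (RingHom.congr_fun (congrArg CommRingCat.Hom.hom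
                (Scheme.ΓSpecIso_naturality (CommRingCat.ofHom (ε g).toAlgHom.toRingHom))) b).symm.trans h2
            obtain ⟨r, hr⟩ := (IsGalois.mem_range_algebraMap_iff_fixed _).2 hfix
            refine ⟨(Scheme.ΓSpecIso (CommRingCat.of k)).inv.hom r, ?_⟩
            have h3 := RingHom.congr_fun (congrArg CommRingCat.Hom.hom
              (Scheme.ΓSpecIso_inv_naturality (CommRingCat.ofHom (algebraMap k K)))) r
            refine h3.symm.trans ((congrArg eK.inv.hom hr).trans ?_)
            exact RingHom.congr_fun (congrArg CommRingCat.Hom.hom eK.hom_inv_id) b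
          have e1 := congrArg (fun f => f.left.appTop.hom b₀) e
          simpa using e1
        obtain ⟨R, hR, hg⟩ := loc_of_invariant ψ hψ1 hψm θ hθ (t ≫ eqToHom hx) (t' ≫ eqToHom hx) he
        refine ⟨R, hR, fun {T₁} f hf => ?_⟩
        obtain ⟨g, hg⟩ := hg f hf
        refine ⟨g, ?_⟩
        rw [hα, ← cancel_mono (eqToHom hx)]
        simpa [ψ] using hg }
  obtain ⟨χ, hχ, -⟩ := Δ.exists_hom (isStack_isPrestack h𝒵.isStack) h₁ h₂ ν₁ ν₂
    (by rw [hν₁]; simp [Δ]) (by rw [hν₂]; simp [Δ]) hi₁ hi₂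
  exact ⟨χ, hχ⟩

end Groth.Agent.Desc19b.HensSp
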