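import Groth.Agent.Stk19.Fp2
import Groth.Agent.Stk19.Stack

/-!
Fibre powers of a functor over a base category, with the permutation action on the coordinates.
-/

set_option autoImplicit false
set_option backward.isDefEq.respectTransparency false
set_option backward.isDefEq.respectTransparency.types false

universe w v₂ u₂ v u

open CategoryTheory FibCat Groth.Agent.Stk19

noncomputable section

namespace Groth.Agent.Desc19b.HensSp

variable {C : Type u} [Category.{v} C] {𝒴 𝒵 : BasedCategory.{v₂, u₂} C} (a : 𝒴 ⥤ᵇ 𝒵) (I : Type w)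

/-- an object with `I` lifts along `a` -/
structure PWObj where
  /-- the object -/
  pt : 𝒵.obj
  /-- the lifts -/
  crd : I → 𝒴.obj
  /-- the identifications -/
  iso : ∀ i, a.obj (crd i) ≅ pt
  base : ∀ i, 𝒴.p.obj (crd i) = 𝒵.p.obj pt
  map_iso : ∀ i, 𝒵.p.map (iso i).hom = eqToHom ((a.w_obj (crd i)).trans (base i))

namespace PWObj

variable {a I}

/-- morphisms -/
@[ext]
structure Hom (c d : PWObj a I) where
  /-- on the object -/
  pt : c.pt ⟶ d.pt
  /-- on the lifts -/
  crd : ∀ i, c.crd i ⟶ d.crd i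
  w : ∀ i, a.map (crd i) ≫ (d.iso i).hom = (c.iso i).hom ≫ pt

instance : Category (PWObj a I) where
  Hom := Hom
  id c := ⟨𝟙 _, fun _ => 𝟙 _, fun i => by simp⟩
  comp f g := ⟨f.pt ≫ g.pt, fun i => f.crd i ≫ g.crd i, fun i => by
    rw [a.toFunctor.map_comp, Category.assoc, g.w, ← Category.assoc, f.w, Category.assoc]⟩
  id_comp f := Hom.ext (Category.id_comp _) (funext fun i => Category.id_comp _)
  comp_id f := Hom.ext (Category.comp_id _) (funext fun i => Category.comp_id _)
  assoc f g h := Hom.ext (Category.assoc _ _ _) (funext fun i => Category.assoc _ _ _)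

@[ext] theorem hom_ext {c d : PWObj a I} {f g : c ⟶ d} (h₁ : f.pt = g.pt) (h₂ : ∀ i, f.crd i = g.crd i) :
    f = g := Hom.ext h₁ (funext h₂)

@[simp] theorem id_pt (c : PWObj a I) : (𝟙 c : c ⟶ c).pt = 𝟙 _ := rfl
@[simp] theorem id_crd (c : PWObj a I) (i : I) : (𝟙 c : c ⟶ c).crd i = 𝟙 _ := rfl
@[simp] theorem comp_pt {c d e : PWObj a I} (f : c ⟶ d) (g : d ⟶ e) : (f ≫ g).pt = f.pt ≫ g.pt := rfl
@[simp] theorem comp_crd {c d e : PWObj a I} (f : c ⟶ d) (g : d ⟶ e) (i : I) :
    (f ≫ g).crd i = f.crd i ≫ g.crd i := rfl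

theorem map_crd {c d : PWObj a I} (f : c ⟶ d) (i : I) :
    𝒴.p.map (f.crd i) = eqToHom (c.base i) ≫ 𝒵.p.map f.pt ≫ eqToHom (d.base i).symm := by
  have h := congrArg 𝒵.p.map (f.w i)
  rw [Functor.map_comp, Functor.map_comp, c.map_iso, d.map_iso, based_map, Category.assoc, Category.assoc,
    eqToHom_trans] at h
  rw [← cancel_epi (eqToHom (a.w_obj (c.crd i)))]
  rw [← cancel_mono (eqToHom (d.base i))]
  simpa using h

end PWObj

/-- the projection to the base -/
def pwProj : PWObj a I ⥤ C where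
  obj c := 𝒵.p.obj c.pt
  map {c d} (f : c ⟶ d) := 𝒵.p.map f.pt
  map_id c := by simp
  map_comp f g := by simp

/-- the fibre power as a category over `C` -/
abbrev pw : BasedCategory.{max w v₂, max w u₂ v₂} C where
  obj := PWObj a I
  p := pwProj a I

@[simp] theorem pw_map {c d : PWObj a I} (f : c ⟶ d) : (pwProj a I).map f = 𝒵.p.map f.pt := rfl

/-- the underlying object -/
def pwForget : pw a I ⥤ᵇ 𝒵 where
  toFunctor := { obj := fun (c : PWObj a I) => c.pt, map := fun {c d} (f : c ⟶ d) => f.pt }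
  w := rfl

/-- a coordinate -/
def pwEval (i : I) : pw a I ⥤ᵇ 𝒴 where
  toFunctor := { obj := fun (c : PWObj a I) => c.crd i, map := fun {c d} (f : c ⟶ d) => f.crd i }
  w := CategoryTheory.Functor.ext (fun c => c.base i) fun c d f => PWObj.map_crd f i

/-- reindexing -/
def pwReindex {J : Type w} (π : J → I) : pw a I ⥤ᵇ pw a J where
  toFunctor :=
    { obj := fun (c : PWObj a I) => ⟨c.pt, fun j => c.crd (π j), fun j => c.iso (π j), fun j => c.base (π j), fun j => c.map_iso (π j)⟩
      map := fun {c d} (f : c ⟶ d) => ⟨f.pt, fun j => f.crd (π j), fun j => f.w (π j)⟩ }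
  w := rfl

theorem pwReindex_forget {J : Type w} (π : J → I) :
    BasedFunctor.comp (pwReindex a I π) (pwForget a J) = pwForget a I := rfl

theorem isEquivOver_pwReindex {J : Type w} (π : J ≃ I) : IsEquivOver (pwReindex a I π) := by
  refine EqvData.isEquivOver ⟨⟨fun {c d} t => ⟨⟨t.pt, fun i => eqToHom (congrArg c.crd (π.apply_symm_apply i).symm) ≫
    t.crd (π.symm i) ≫ eqToHom (congrArg d.crd (π.apply_symm_apply i)), fun i => ?_⟩, ?_⟩⟩,
    ⟨fun {c d f g} h => PWObj.hom_ext (congrArg PWObj.Hom.pt h :) fun i => ?_⟩, fun η => ?_⟩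
  · obtain ⟨j, rfl⟩ := π.surjective i
    have key : ∀ k (hk : k = j), a.map (eqToHom (congrArg (fun k => c.crd (π k)) hk.symm) ≫ t.crd k ≫
        eqToHom (congrArg (fun k => d.crd (π k)) hk)) ≫ (d.iso (π j)).hom = (c.iso (π j)).hom ≫ t.pt := by
      rintro k rfl
      have := t.w k
      dsimp [pwReindex] at this ⊢
      simpa using this
    exact key _ (π.symm_apply_apply j)
  · refine PWObj.hom_ext rfl fun j => ?_
    show eqToHom _ ≫ t.crd (π.symm (π j)) ≫ eqToHom _ = t.crd j
    have key : ∀ k (hk : k = j) (h₁ : c.crd (π j) = c.crd (π k)) (h₂ : d.crd (π k) = d.crd (π j)),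
        eqToHom h₁ ≫ t.crd k ≫ eqToHom h₂ = t.crd j := by
      rintro k rfl _ _
      simp
    exact key _ (π.symm_apply_apply j) _ _
  · obtain ⟨j, rfl⟩ := π.surjective i
    exact congr_fun (congrArg PWObj.Hom.crd h) j
  · refine ⟨(pwReindex a J π.symm).obj η, ?_, ?_⟩
    · refine eqToIso ?_
      obtain ⟨pt, crd, iso, base, hm⟩ := η
      have e : ∀ (π' : J → J), π' = id →
          (⟨pt, fun j => crd (π' j), fun j => iso (π' j), fun j => base (π' j), fun j => hm (π' j)⟩ :
            PWObj a J) = ⟨pt, crd, iso, base, hm⟩ := by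
        rintro _ rfl
        rfl
      exact e _ (funext π.symm_apply_apply)
    · refine vert_of_map_eq (pw a J).p (h := rfl) ?_
      rw [eqToIso.hom]
      exact eqToHom_map _ _

theorem isEquivOver_pwForget [IsEmpty I] : IsEquivOver (pwForget a I) := by
  refine EqvData.isEquivOver ⟨⟨fun {c d} t => ⟨⟨t, fun i => isEmptyElim i, fun i => isEmptyElim i⟩, rfl⟩⟩,
    ⟨fun {c d f g} h => PWObj.hom_ext h fun i => isEmptyElim i⟩, fun η => ?_⟩
  exact ⟨⟨η, isEmptyElim, fun i => isEmptyElim i, fun i => isEmptyElim i, fun i => isEmptyElim i⟩, Iso.refl _,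
    IsHomLift.id rfl⟩

/-- a further coordinate as a fibre product -/
def pwOption : pw a (Option I) ⥤ᵇ fp (pwForget a I) a :=
  fpLift (pwReindex a (Option I) some) (pwEval a (Option I) none)
    (isoMk (fun c => (c.iso none).symm) (fun c => by
      have h : 𝒵.p.IsHomLift (𝟙 (𝒵.p.obj (a.obj (c.crd none)))) (c.iso none).hom := vert_of_map_eq 𝒵.p (c.map_iso none)
      exact vert_change 𝒵.p _ (vert_inv 𝒵.p _ h) rfl)
      fun {c d} f => by
        show f.pt ≫ (d.iso none).inv = (c.iso none).inv ≫ a.map (f.crd none)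
        rw [Iso.eq_inv_comp, ← reassoc_of% (f.w none), Iso.hom_inv_id, Category.comp_id])

theorem isEquivOver_pwOption : IsEquivOver (pwOption a I) := by
  refine EqvData.isEquivOver ⟨⟨fun {c d} t => ?_⟩, ⟨fun {c d f g} h => ?_⟩, fun η => ?_⟩
  · refine ⟨⟨t.hom.fst.pt, fun o => match o with
      | none => t.hom.snd
      | some i => t.hom.fst.crd i, fun o => ?_⟩, fp_hom_ext (PWObj.hom_ext rfl fun i => rfl) rfl⟩
    cases o with
    | none =>
      have h : t.hom.fst.pt ≫ (d.iso none).inv = (c.iso none).inv ≫ a.map t.hom.snd := t.hom.w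
      rw [← Iso.eq_comp_inv, Category.assoc, h, Iso.hom_inv_id_assoc]
    | some i => exact t.hom.fst.w i
  · refine PWObj.hom_ext (congrArg (fun m => m.hom.fst.pt) h) fun o => ?_
    cases o with
    | none => exact congrArg (fun m => m.hom.snd) h
    | some i => exact congrArg (fun m => m.hom.fst.crd i) h
  · obtain ⟨⟨x, y, φ⟩, hφ⟩ := η
    have hb : 𝒴.p.obj y = 𝒵.p.obj x.pt := fp_base_eq ⟨⟨x, y, φ⟩, hφ⟩
    have hφm : 𝒵.p.map φ.hom = eqToHom (hb.symm.trans (a.w_obj y).symm) :=
      fp_iso_map (F := pwForget a I) (G := a) ⟨⟨x, y, φ⟩, hφ⟩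
    let ξ : PWObj a (Option I) :=
      { pt := x.pt
        crd := fun o => match o with | none => y | some i => x.crd i
        iso := fun o => match o with | none => φ.symm | some i => x.iso i
        base := fun o => match o with | none => hb | some i => x.base i
        map_iso := fun o => match o with
          | none => by
            show 𝒵.p.map φ.inv = _
            rw [← cancel_mono (𝒵.p.map φ.hom), ← 𝒵.p.map_comp, φ.inv_hom_id, 𝒵.p.map_id, hφm, eqToHom_trans]
            simp
          | some i => x.map_iso i }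
    refine ⟨ξ, eqToIso ?_, ?_⟩
    · obtain ⟨pt, crd, iso, base, hm⟩ := x
      exact ObjectProperty.FullSubcategory.ext (by
        rfl)
    · refine vert_of_map_eq (fp (pwForget a I) a).p (h := rfl) ?_
      rw [eqToIso.hom]
      exact eqToHom_map _ _

end Groth.Agent.Desc19b.HensSp
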