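import Groth.Agent.Desc19b.HensSp.PW
import Groth.Agent.Stk19.AlgSt.LocQThm

/-!
Fibre powers of smooth charts of stacks.
-/

set_option autoImplicit false
set_option backward.isDefEq.respectTransparency false
set_option backward.isDefEq.respectTransparency.types false

universe u

open CategoryTheory CategoryTheory.Limits AlgebraicGeometry Opposite FibCat
open Groth.Agent.Stk19 Groth.Agent.Desc19

noncomputable section

namespace Groth.Agent.Desc19b.HensSp

variable {S : Scheme.{u}} {𝒳 𝒵 : AlgSt.Cat S}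

theorem with_id : AlgSt.RepByAlgSpWith (AlgSp.LocP @Smooth) (BasedFunctor.id 𝒵) := fun U y => by
  have h := isEquivOver_fpFst (F := y) (G := BasedFunctor.id 𝒵) (isEquivOver_id _)
  obtain ⟨G, hG, -, ⟨c⟩⟩ := exists_inverse h
  refine ⟨⟨_, AlgSp.IsAlgSpace.yon_obj U⟩, BasedFunctor.comp (AlgSt.toOverCat U) G,
    isEquivOver_comp (isEquivOver_toOverCat U) hG, ?_⟩
  have e : AlgSt.spMapOfOver (BasedFunctor.comp (BasedFunctor.comp (AlgSt.toOverCat U) G)
      (fpFst y (BasedFunctor.id 𝒵))) = 𝟙 _ :=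
    (spMapOfOver_congr ((Stk.restr (AlgSt.toOverCat U) _).map c.hom)).trans (spMapOfOver_toOverCat U)
  rw [e]
  exact AlgSpLib.locP_id AlgSpLib.etLocal_smooth (AlgSp.IsAlgSpace.yon_obj U)

variable {U : Over S} {a : overCat U ⥤ᵇ 𝒵}

/-- a morphism of fibre powers is determined by its base -/
theorem pwHom_ext {I : Type u} (hs : AlgSt.RepByAlgSp (pw a I)) {c d : PWObj a I} (f g : c ⟶ d)
    (h : 𝒵.p.map f.pt = 𝒵.p.map g.pt) : f = g := by
  obtain ⟨W, e, he⟩ := hs
  obtain ⟨Ψ, hΨ, -⟩ := exists_inverse he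
  have := (EqvData.of_isEquivOver hΨ).faithful
  refine Ψ.toFunctor.map_injective (Stk.EltObj.hom_ext ?_)
  have h1 := based_map Ψ f
  have h2 := based_map Ψ g
  simp only [Stk.EltObj.forget_map, pw_map] at h1 h2
  rw [h1, h2, h]

theorem fibGrpd_pw {I : Type u} (hs : AlgSt.RepByAlgSp (pw a I)) : IsFibGrpd (pw a I).p :=
  (setoid_of_repByAlgSp hs).1

/-- smoothness of the forgetful functors -/
theorem with_pwForget (h𝒵 : IsFibGrpd 𝒵.p) (ha : AlgSt.RepByAlgSpWith (AlgSp.LocP @Smooth) a) (I : Type u)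
    [Finite I] : AlgSt.RepByAlgSpWith (AlgSp.LocP @Smooth) (pwForget a I) ∧
      (Nonempty I → AlgSt.RepByAlgSp (pw a I)) := by
  have hsm := AlgSpLib.etLocal_smooth.{u}
  refine Finite.induction_empty_option (P := fun I => AlgSt.RepByAlgSpWith (AlgSp.LocP @Smooth) (pwForget a I) ∧
    (Nonempty I → AlgSt.RepByAlgSp (pw a I))) ?_ ?_ ?_ I
  · rintro α β e ⟨h1, h2⟩
    have hE := isEquivOver_pwReindex (a := a) β (J := α) e
    refine ⟨?_, fun h => repByAlgSp_of_equiv' hE (h2 (e.nonempty_congr.2 h))⟩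
    rw [← pwReindex_forget a β (J := α) e]
    exact with_equiv_comp hE h1
  · refine ⟨?_, fun h => (IsEmpty.false h.some).elim⟩
    show AlgSt.RepByAlgSpWith (AlgSp.LocP @Smooth) (BasedFunctor.comp (pwForget a PEmpty.{u + 1}) (BasedFunctor.id 𝒵))
    exact with_equiv_comp (isEquivOver_pwForget a _) with_id
  · rintro α _ ⟨h1, h2⟩
    have hE := isEquivOver_pwOption a α
    have hrep : AlgSt.RepByAlgSp (pw a (Option α)) := by
      obtain ⟨F, e, he, -⟩ := h1 U a
      exact repByAlgSp_of_equiv' (isEquivOver_comp hE (isEquivOver_fpSwap (pwForget a α) a)) ⟨F, e, he⟩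
    refine ⟨?_, fun _ => hrep⟩
    have h3 : AlgSt.RepByAlgSpWith (AlgSp.LocP @Smooth) (pwReindex a (Option α) (some : α → Option α)) :=
      with_equiv_comp hE (repByAlgSpWith_fpFst (pwForget a α) ha)
    rw [← pwReindex_forget a (Option α) (J := α) some]
    by_cases hα : Nonempty α
    · exact repByAlgSpWith_comp_desc (respSrc_locP hsm) (atlasDescent_locP hsm) (compStable_locP hsm)
        (fibGrpd_pw hrep) (fibGrpd_pw (h2 hα)) h3 h1
    · have : IsEmpty α := not_nonempty_iff.1 hα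
      exact with_comp_equiv (isEquivOver_pwForget a α) h3

end Groth.Agent.Desc19b.HensSp
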