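import Groth.Agent.Desc19b.HensSp.Chart

/-!
The point of the fibre power given by a Galois orbit of lifts of a field valued point.
-/

set_option autoImplicit false
set_option backward.isDefEq.respectTransparency false
set_option backward.isDefEq.respectTransparency.types false

universe u

open CategoryTheory CategoryTheory.Limits AlgebraicGeometry Opposite FibCat
open Groth.Agent.Stk19 Groth.Agent.Desc19 Groth.Agent.AlgSpLib

noncomputable section

namespace Groth.Agent.Desc19b.HensSp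

variable {S : Scheme.{u}} {𝒵 : AlgSt.Cat S} {U : Over S} {a : overCat U ⥤ᵇ 𝒵} {G : Type u} [Group G] [Finite G]

theorem exists_point (h𝒵 : AlgSt.IsAlgStack Scheme.fppfPrecoverage 𝒵)
    (ha : AlgSt.RepByAlgSpWith (AlgSp.LocP @Smooth) a) (W : AlgSp.Space S) (e : AlgSt.ofSp W.obj ⥤ᵇ pw a G)
    (he : IsEquivOver e) (s : G → (W.obj ⟶ W.obj))
    (hs : ∀ g {T : Over S} (t : (AlgSp.yon S).obj T ⟶ W.obj),
      Nonempty (sheet e (t ≫ s g) ≅ BasedFunctor.comp (sheet e t) (trC a g)))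
    {k K : Type u} [Field k] [Field K] [Algebra k K] (str : Spec (CommRingCat.of k) ⟶ S)
    (ε : G ≃* (K ≃ₐ[k] K)) (z : overCat (Over.mk str) ⥤ᵇ 𝒵) (u : specOver str K ⟶ U)
    (j : BasedFunctor.comp (AlgSt.overMap u) a ≅ BasedFunctor.comp (AlgSt.overMap (specHom str K)) z) :
    ∃ (w : (AlgSp.yon S).obj (specOver str K) ⟶ W.obj) (c : PWObj a G) (hc : 𝒵.p.obj c.pt = specOver str K)
      (ζ : c.pt ⟶ z.obj (Over.mk (𝟙 (Over.mk str)))) (b : ∀ g, (trC a g⁻¹).obj c ⟶ c)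
      (i : c ⟶ (sheet e w).obj (Over.mk (𝟙 (specOver str K)))),
      𝒵.p.map i.pt = eqToHom (hc.trans ((sheet e w).w_obj (Over.mk (𝟙 (specOver str K)))).symm) ∧
      𝒵.p.map ζ = eqToHom hc ≫ specHom str K ≫ eqToHom (z.w_obj (Over.mk (𝟙 (Over.mk str)))).symm ∧
      (∀ g, 𝒵.p.map (b g).pt = eqToHom hc ≫ specMap str (ε g).toAlgHom ≫ eqToHom hc.symm) ∧
      (∀ g, (b g).pt ≫ ζ = ζ) ∧
      (∀ g, (AlgSp.yon S).map (specMap str (ε g).toAlgHom) ≫ w = w ≫ s g⁻¹) ∧
      ∀ g, crdOf (sheet e w) g = specMap str (ε g).toAlgHom ≫ u := by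
  have hsp : AlgSt.RepByAlgSp (pw a G) := (with_pwForget h𝒵.isStack.1 ha G).2 ⟨1⟩
  let T : Over S := specOver str K
  let ψ : G → (T ⟶ T) := fun g => specMap str (ε g).toAlgHom
  let incl : T ⟶ Over.mk str := specHom str K
  have hψi : ∀ g, ψ g ≫ incl = incl := fun g => specMap_comp_specHom str _
  have hψm : ∀ g h, ψ g ≫ ψ h = ψ (g * h) := fun g h => by
    show _ = specMap str _
    rw [← specMap_comp, map_mul]
    rfl
  let ι : ∀ g, Over.mk (ψ g ≫ incl) ≅ Over.mk incl := fun g => Over.isoMk (Iso.refl _) (by simp [hψi])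
  let c : PWObj a G :=
    { pt := z.obj (Over.mk incl)
      crd := fun g => Over.mk (ψ g ≫ u)
      iso := fun g => appIso j (Over.mk (ψ g)) ≪≫ z.toFunctor.mapIso (ι g)
      base := fun g => (z.w_obj (Over.mk incl)).symm
      map_iso := fun g => by
        rw [Iso.trans_hom, 𝒵.p.map_comp, appIso_hom, based_app_map, Functor.mapIso_hom, based_map z]
        show _ ≫ _ ≫ 𝟙 T ≫ _ = _
        simp }
  have hc : 𝒵.p.obj c.pt = T := z.w_obj _
  let ζ : c.pt ⟶ z.obj (Over.mk (𝟙 (Over.mk str))) := z.map (Over.homMk incl (Category.comp_id _))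
  let γ : ∀ g, Over.mk incl ⟶ Over.mk incl := fun g => Over.homMk (ψ g) (hψi g)
  let b : ∀ g, (trC a g⁻¹).obj c ⟶ c := fun g =>
    { pt := z.map (γ g)
      crd := fun k => Over.homMk (ψ g) (by
        show ψ g ≫ ψ k ≫ u = ψ (g⁻¹⁻¹ * k) ≫ u
        rw [inv_inv, ← hψm, Category.assoc])
      w := fun k => by
        let φ₀ : Over.mk (ψ (g⁻¹⁻¹ * k)) ⟶ Over.mk (ψ k) := Over.homMk (ψ g) (by
          show ψ g ≫ ψ k = _
          rw [inv_inv, hψm]; rfl)
        have hn := j.hom.toNatTrans.naturality φ₀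
        show a.map _ ≫ (appIso j (Over.mk (ψ k))).hom ≫ z.map (ι k).hom =
          ((appIso j (Over.mk (ψ (g⁻¹⁻¹ * k)))).hom ≫ z.map (ι (g⁻¹⁻¹ * k)).hom) ≫ z.map (γ g)
        have e1 : z.map ((Over.map incl).map φ₀) ≫ z.map (ι k).hom =
            z.map (ι (g⁻¹⁻¹ * k)).hom ≫ z.map (γ g) := by
          rw [← z.toFunctor.map_comp, ← z.toFunctor.map_comp]
          exact congrArg z.map (Over.OverMorphism.ext (by show ψ g ≫ 𝟙 T = 𝟙 T ≫ ψ g; simp))
        exact (Category.assoc _ _ _).symm.trans ((congrArg (· ≫ z.map (ι k).hom) hn).trans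
          ((Category.assoc _ _ _).trans ((congrArg (_ ≫ ·) e1).trans (Category.assoc _ _ _).symm))) }
  have hb : ∀ g, 𝒵.p.map (b g).pt = eqToHom hc ≫ ψ g ≫ eqToHom hc.symm := fun g => based_map z _
  obtain ⟨F, i₀, hi₀⟩ := exists_classifying (U := T) (fibGrpd_pw hsp) c hc
  obtain ⟨w, ⟨iw⟩⟩ := exists_sheet e he F
  have hi₀' : (pw a G).p.map i₀.inv = eqToHom (hc.trans (F.w_obj (Over.mk (𝟙 T))).symm) := by
    have := vert_inv (pw a G).p i₀ hi₀
    exact map_eq_of_vert (pw a G).p (R := T) i₀.inv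
  let i : c ⟶ (sheet e w).obj (Over.mk (𝟙 T)) := i₀.inv ≫ iw.inv.toNatTrans.app _
  have hi : (pw a G).p.map i = eqToHom (hc.trans ((sheet e w).w_obj (Over.mk (𝟙 T))).symm) := by
    rw [(pw a G).p.map_comp, hi₀', based_app_map, eqToHom_trans]
  refine ⟨w, c, hc, ζ, b, i, hi, based_map z _, hb, fun g => ?_, fun g => ?_, fun g => ?_⟩
  · show z.map (γ g) ≫ ζ = ζ
    rw [← z.toFunctor.map_comp]
    exact congrArg z.map (Over.OverMorphism.ext (hψi g))
  · refine sheet_inj e he ?_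
    refine Classical.choice ?_
    obtain ⟨i₁⟩ := hs g⁻¹ w
    -- the translated family is the restriction
    let F' := BasedFunctor.comp F (trC a g⁻¹)
    let bb : F'.obj (Over.mk (𝟙 T)) ⟶ F.obj (Over.mk (𝟙 T)) := (trC a g⁻¹).map i₀.hom ≫ b g ≫ i₀.inv
    have hbb : (pw a G).p.map bb =
        eqToHom (F'.w_obj _) ≫ ψ g ≫ eqToHom (F.w_obj (Over.mk (𝟙 T))).symm := by
      have h0 : (pw a G).p.map i₀.hom = eqToHom (eq_of_vert _ i₀.hom hi₀) := by
        obtain ⟨-, h', hφ⟩ := (vert_iff (pw a G).p i₀.hom).1 hi₀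
        exact hφ
      rw [(pw a G).p.map_comp, (pw a G).p.map_comp, hi₀', based_map (trC a g⁻¹), h0,
        show (pw a G).p.map (b g) = _ from hb g]
      simp
    obtain ⟨i₂⟩ := exists_iso_overMap (fibGrpd_pw hsp) (ψ g) F F' bb hbb
    exact ⟨(Stk.restr (AlgSt.overMap (ψ g)) _).mapIso iw ≪≫ i₂.symm ≪≫ (postB _ (trC a g⁻¹)).mapIso iw.symm ≪≫ i₁.symm⟩
  · rw [crdOf_congr iw]
    exact crdOf_of_classifying F g c i₀ _ rfl hi₀

end Groth.Agent.Desc19b.HensSp
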