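import Mathlib.RingTheory.Etale.StandardEtale
import Mathlib.RingTheory.Etale.Basic
import Mathlib.LinearAlgebra.Finsupp.VectorSpace
import Mathlib.RingTheory.IntegralClosure.IntegralRestrict
import Mathlib.RingTheory.Ideal.GoingUp

/-!
Rings with a free action of a finite group, witnessed by an element whose conjugates have unit differences.
-/

set_option autoImplicit false

universe u w

open Polynomial

noncomputable section

namespace Groth.Agent.Desc19b.HensSp

variable {A : Type u} [CommRing A] {G : Type w} [Group G] [Fintype G] (σ : G →* (A ≃+* A))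

/-- the invariants -/
def invSubring : Subring A := ⨅ g : G, RingHom.eqLocus (σ g).toRingHom (RingHom.id A)

theorem mem_invSubring {a : A} : a ∈ invSubring σ ↔ ∀ g, σ g a = a := by
  simp [invSubring, Subring.mem_iInf, RingHom.eqLocus]

variable (θ : A)

/-- the product of `X` minus the conjugates -/
def orbitPoly : A[X] := ∏ g : G, (X - C (σ g θ))

theorem monic_orbitPoly : (orbitPoly σ θ).Monic := monic_prod_of_monic _ _ fun g _ => monic_X_sub_C _

theorem map_orbitPoly (k : G) : (orbitPoly σ θ).map (σ k).toRingHom = orbitPoly σ θ := by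
  rw [orbitPoly, Polynomial.map_prod]
  refine Fintype.prod_equiv (Equiv.mulLeft k) _ _ fun g => ?_
  simp

theorem eval_orbitPoly (g : G) : (orbitPoly σ θ).eval (σ g θ) = 0 := by
  rw [orbitPoly, eval_prod]
  exact Finset.prod_eq_zero (Finset.mem_univ g) (by simp)

variable (h : ∀ g k, g ≠ k → IsUnit (σ g θ - σ k θ))
include h

/-- a polynomial vanishing at all conjugates is a multiple of their product -/
theorem orbitPoly_dvd {p : A[X]} (hp : ∀ g, p.eval (σ g θ) = 0) : orbitPoly σ θ ∣ p := by
  refine Finset.prod_dvd_of_coprime ?_ fun g _ => dvd_iff_isRoot.2 (hp g)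
  intro g _ k _ hgk
  obtain ⟨v, hv⟩ := (h g k hgk)
  refine ⟨-C (↑v⁻¹ : A), C (↑v⁻¹ : A), ?_⟩
  have e : C (↑v⁻¹ : A) * C (σ g θ - σ k θ) = 1 := by
    rw [← C_mul, ← hv, Units.inv_mul, C_1]
  linear_combination (norm := (simp only [map_sub]; ring)) e

/-- values at the conjugates are interpolated -/
theorem exists_interp (a : A) : ∃ P : A[X], (∀ g, σ g a = P.eval (σ g θ)) ∧
    ∀ k, P.map (σ k).toRingHom = P := by
  classical
  let L : G → A[X] := fun g =>
    ∏ k ∈ Finset.univ.erase g, C (Ring.inverse (σ g θ - σ k θ)) * (X - C (σ k θ))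
  let P : A[X] := ∑ g, C (σ g a) * L g
  have hL : ∀ g g', (L g).eval (σ g' θ) = if g = g' then 1 else 0 := by
    intro g g'
    rw [eval_prod]
    split_ifs with e
    · subst e
      refine Finset.prod_eq_one fun k hk => ?_
      simp only [eval_mul, eval_C, eval_sub, eval_X]
      exact Ring.inverse_mul_cancel _ (h g k (Ne.symm (Finset.ne_of_mem_erase hk)))
    · exact Finset.prod_eq_zero (Finset.mem_erase.2 ⟨fun h' => e h'.symm, Finset.mem_univ g'⟩) (by simp)
  refine ⟨P, fun g => ?_, fun k => ?_⟩
  · simp [P, eval_finset_sum, hL]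
  · simp only [P, Polynomial.map_sum, Polynomial.map_mul, map_C]
    refine Fintype.sum_equiv (Equiv.mulLeft k) _ _ fun g => ?_
    simp only [Equiv.coe_mulLeft]
    congr 1
    · simp
    · rw [Polynomial.map_prod]
      refine Finset.prod_bij (fun j _ => k * j) (fun j hj => ?_) (fun j _ j' _ e => mul_left_cancel e)
        (fun j hj => ⟨k⁻¹ * j, ?_, by simp⟩) (fun j hj => ?_)
      · simp only [Finset.mem_erase, Finset.mem_univ, and_true] at hj ⊢
        exact fun e => hj (mul_left_cancel e)
      · simp only [Finset.mem_erase, Finset.mem_univ, and_true] at hj ⊢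
        rintro rfl
        simp at hj
      · have hi : (σ k) (Ring.inverse (σ g θ - σ j θ)) = Ring.inverse (σ (k * g) θ - σ (k * j) θ) := by
          obtain ⟨v, hv⟩ := h g j (Ne.symm (Finset.ne_of_mem_erase hj))
          have e : σ (k * g) θ - σ (k * j) θ = (Units.map (σ k).toRingHom.toMonoidHom v : Aˣ) := by
            simp [hv]
          rw [← hv, Ring.inverse_unit, e, Ring.inverse_unit, ← map_inv]
          rfl
        simp [hi]

theorem exists_lift_poly {P : A[X]} (hP : ∀ k, P.map (σ k).toRingHom = P) :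
    ∃ Q : (invSubring σ)[X], Q.map (invSubring σ).subtype = P := by
  have hc : ∀ i, P.coeff i ∈ invSubring σ := fun i => (mem_invSubring σ).2 fun k => by
    conv_rhs => rw [← hP k]
    rw [coeff_map]
    rfl
  have hl : P ∈ lifts (invSubring σ).subtype :=
    (lifts_iff_coeff_lifts _).2 fun i => ⟨⟨P.coeff i, hc i⟩, rfl⟩
  exact (mem_lifts _).1 hl

/-- the ring is generated by `θ` over the invariants, with the single relation -/
theorem bijective_lift : ∃ (f : (invSubring σ)[X]) (hf : f.Monic) (h0 : aeval θ f = 0),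
    f.map (invSubring σ).subtype = orbitPoly σ θ ∧
    Function.Bijective (AdjoinRoot.liftAlgHom f (Algebra.ofId (invSubring σ) A) θ h0) := by
  obtain ⟨f, hfmap, -, hfm⟩ := lifts_and_natDegree_eq_and_monic
    ((mem_lifts _).2 (exists_lift_poly σ θ h (map_orbitPoly σ θ))) (monic_orbitPoly σ θ)
  have h0 : aeval θ f = 0 := by
    rw [aeval_def, eval₂_eq_eval_map]
    change (f.map (invSubring σ).subtype).eval θ = 0
    rw [hfmap]
    simpa using eval_orbitPoly σ θ 1
  refine ⟨f, hfm, h0, hfmap, (injective_iff_map_eq_zero _).2 fun q hq => ?_, fun a => ?_⟩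
  · obtain ⟨p, rfl⟩ := AdjoinRoot.mk_surjective q
    rw [AdjoinRoot.liftAlgHom_mk] at hq
    have hq' : (p.map (invSubring σ).subtype).eval θ = 0 := by
      rw [eval_map]; exact hq
    have hd : orbitPoly σ θ ∣ p.map (invSubring σ).subtype := by
      refine orbitPoly_dvd σ θ h fun g => ?_
      have e : (p.map (invSubring σ).subtype).map (σ g).toRingHom = p.map (invSubring σ).subtype := by
        rw [Polynomial.map_map]
        congr 1
        ext b
        exact (mem_invSubring σ).1 b.2 g
      show eval ((σ g).toRingHom θ) _ = 0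
      rw [← e, eval_map_apply]
      simp [hq']
    rw [← hfmap] at hd
    exact AdjoinRoot.mk_eq_zero.2 ((map_dvd_map _ Subtype.val_injective hfm).1 hd)
  · obtain ⟨P, hP, hPi⟩ := exists_interp σ θ h a
    obtain ⟨Q, hQ⟩ := exists_lift_poly σ θ h hPi
    refine ⟨AdjoinRoot.mk f Q, ?_⟩
    rw [AdjoinRoot.liftAlgHom_mk]
    change eval₂ (invSubring σ).subtype θ Q = a
    rw [← eval_map, hQ]
    simpa using (hP 1).symm

/-- the extension is etale -/
theorem etale_invSubring : Algebra.Etale (invSubring σ) A ∧ Algebra.IsIntegral (invSubring σ) A := by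
  classical
  obtain ⟨f, hfm, h0, hfmap, hb⟩ := bijective_lift σ θ h
  let e : AdjoinRoot f ≃ₐ[invSubring σ] A := AlgEquiv.ofBijective _ hb
  have hu : IsUnit (AdjoinRoot.mk f (derivative f)) := by
    have key : IsUnit (eval θ (derivative (orbitPoly σ θ))) := by
      rw [orbitPoly, derivative_prod_finset, eval_finset_sum,
        Finset.sum_eq_single (1 : G) (fun g _ hg => ?_) (fun h' => absurd (Finset.mem_univ _) h')]
      · simp only [derivative_sub, derivative_X, derivative_C, sub_zero, mul_one, eval_prod, eval_sub, eval_X,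
          eval_C]
        refine IsUnit.prod_iff.2 fun k hk => ?_
        simpa using h 1 k (Ne.symm (Finset.ne_of_mem_erase hk))
      · rw [eval_mul, eval_prod, Finset.prod_eq_zero (Finset.mem_erase.2 ⟨Ne.symm hg, Finset.mem_univ 1⟩)
          (by simp), zero_mul]
    have e2 : e (AdjoinRoot.mk f (derivative f)) = eval θ (derivative (orbitPoly σ θ)) := by
      show (AdjoinRoot.liftAlgHom f _ θ h0) (AdjoinRoot.mk f (derivative f)) = _
      rw [AdjoinRoot.liftAlgHom_mk]
      change eval₂ (invSubring σ).subtype θ (derivative f) = _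
      rw [← eval_map, ← derivative_map, hfmap]
    rw [← e2] at key
    simpa using key.map e.symm
  let P : StandardEtalePair (invSubring σ) := ⟨f, hfm, derivative f, ⟨1, 0, 1, by simp⟩⟩
  refine ⟨Algebra.Etale.of_equiv (P.equivAwayAdjoinRoot.trans (((IsLocalization.atUnit (AdjoinRoot f)
    (Localization.Away (AdjoinRoot.mk f P.g)) (AdjoinRoot.mk f P.g) hu).restrictScalars (invSubring σ)).symm.trans e)), ?_⟩
  have : Module.Finite (invSubring σ) (AdjoinRoot f) := hfm.finite_adjoinRoot
  have : Module.Finite (invSubring σ) A := Module.Finite.equiv e.toLinearEquiv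
  exact inferInstance

/-- two points over the invariants differ locally by the group -/
theorem exists_local_eq {D : Type u} [CommRing D] (t t' : A →+* D)
    (he : ∀ b ∈ invSubring σ, t b = t' b) :
    ∃ e : G → D, Ideal.span (Set.range e) = ⊤ ∧
      ∀ g, ∀ {E : Type u} [CommRing E] (q : D →+* E), IsUnit (q (e g)) →
        q.comp t' = (q.comp t).comp (σ g).toRingHom := by
  classical
  have ht : ∀ P : A[X], (∀ k, P.map (σ k).toRingHom = P) → P.map t' = P.map t := fun P hP => by
    ext i
    rw [coeff_map, coeff_map]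
    refine (he _ ((mem_invSubring σ).2 fun g => ?_)).symm
    conv_rhs => rw [← hP g]
    rw [coeff_map]
    rfl
  have hfac : ∏ g, (t' θ - t (σ g θ)) = 0 := by
    have e1 : ((orbitPoly σ θ).map t').eval (t' θ) = 0 := by
      rw [eval_map_apply, show (orbitPoly σ θ).eval θ = 0 by simpa using eval_orbitPoly σ θ 1, map_zero]
    rw [ht _ (map_orbitPoly σ θ)] at e1
    simpa [orbitPoly, Polynomial.map_prod, eval_prod] using e1
  refine ⟨fun g => ∏ k ∈ Finset.univ.erase g, (t' θ - t (σ k θ)), ?_, fun g E _ q hq => ?_⟩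
  · by_contra hne
    obtain ⟨m, hm, hle⟩ := Ideal.exists_le_maximal _ hne
    have h0 : ∏ g, Ideal.Quotient.mk m (t' θ - t (σ g θ)) = 0 := by rw [← map_prod, hfac, map_zero]
    have := Ideal.Quotient.isDomain (I := m)
    obtain ⟨g, -, hg⟩ := Finset.prod_eq_zero_iff.1 h0
    have hg2 := Ideal.Quotient.eq_zero_iff_mem.2 (hle (Ideal.subset_span ⟨g, rfl⟩))
    rw [map_prod, Finset.prod_eq_zero_iff] at hg2
    obtain ⟨k, hk, hk0⟩ := hg2
    have := ((h g k (Ne.symm (Finset.ne_of_mem_erase hk))).map t).map (Ideal.Quotient.mk m)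
    rw [map_sub t, show t (σ g θ) - t (σ k θ) = (t' θ - t (σ k θ)) - (t' θ - t (σ g θ)) by ring, map_sub, hk0, hg,
      sub_self] at this
    exact not_isUnit_zero this
  · have hθ : q (t' θ) = q (t (σ g θ)) := by
      have e1 : (t' θ - t (σ g θ)) * ∏ k ∈ Finset.univ.erase g, (t' θ - t (σ k θ)) = 0 := by
        rw [Finset.mul_prod_erase Finset.univ (fun k => t' θ - t (σ k θ)) (Finset.mem_univ g), hfac]
      have e2 := congrArg q e1
      rw [map_mul, map_zero, hq.mul_left_eq_zero, map_sub, sub_eq_zero] at e2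
      exact e2
    ext a
    obtain ⟨P, hP, hPi⟩ := exists_interp σ θ h a
    have e3 : t' a = (P.map t').eval (t' θ) := by
      rw [eval_map_apply, show P.eval θ = a by simpa using (hP 1).symm]
    show q (t' a) = q (t (σ g a))
    rw [e3, ht P hPi, hP g, ← eval_map_apply q, hθ, eval_map_apply, eval_map_apply]

/-- the action is free -/
theorem eq_or_subsingleton {D : Type u} [CommRing D] (t : A →+* D) {g k : G}
    (e : t.comp (σ g).toRingHom = t.comp (σ k).toRingHom) : g = k ∨ Subsingleton D := by
  by_cases hgk : g = k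
  · exact Or.inl hgk
  · refine Or.inr (subsingleton_of_zero_eq_one ?_)
    have hu := (h g k hgk).map t
    rw [map_sub, show t (σ g θ) = t (σ k θ) from RingHom.congr_fun e θ, sub_self] at hu
    exact (isUnit_zero_iff.1 hu)

end Groth.Agent.Desc19b.HensSp
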