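import Groth.Agent.Desc19b.HensSp.PWRep

/-!
Functors on slices attached to points of a representing space; coordinates; arrows over morphisms.
-/

set_option autoImplicit false
set_option backward.isDefEq.respectTransparency false
set_option backward.isDefEq.respectTransparency.types false

universe u

open CategoryTheory CategoryTheory.Limits AlgebraicGeometry Opposite FibCat
open Groth.Agent.Stk19 Groth.Agent.Desc19

noncomputable section

namespace Groth.Agent.Desc19b.HensSp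

variable {S : Scheme.{u}} {𝒳 𝒵 : AlgSt.Cat S}

section Sheet

variable {W : AlgSp.Sp S} (e : AlgSt.ofSp W ⥤ᵇ 𝒳)

/-- the functor on a slice attached to a point of the space -/
abbrev sheet {T : Over S} (t : (AlgSp.yon S).obj T ⟶ W) : overCat T ⥤ᵇ 𝒳 :=
  BasedFunctor.comp (BasedFunctor.comp (AlgSt.ofOverCat T) (AlgSt.ofSpMap t)) e

theorem sheet_map {T' T : Over S} (φ : T' ⟶ T) (t : (AlgSp.yon S).obj T ⟶ W) :
    sheet e ((AlgSp.yon S).map φ ≫ t) = BasedFunctor.comp (AlgSt.overMap φ) (sheet e t) := rfl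

variable (he : IsEquivOver e)
include he

theorem exists_sheet {T : Over S} (F : overCat T ⥤ᵇ 𝒳) :
    ∃ t : (AlgSp.yon S).obj T ⟶ W, Nonempty (sheet e t ≅ F) := by
  obtain ⟨Ψ, -, ⟨c⟩⟩ := he
  obtain ⟨i⟩ := spHom_iso (BasedFunctor.comp (BasedFunctor.comp (AlgSt.toOverCat T) F) Ψ)
  exact ⟨_, ⟨(postB _ e).mapIso ((Stk.restr (AlgSt.ofOverCat T) _).mapIso i.symm) ≪≫
    (Stk.restr F _).mapIso c⟩⟩

theorem sheet_inj {T : Over S} {t t' : (AlgSp.yon S).obj T ⟶ W} (i : sheet e t ≅ sheet e t') : t = t' := by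
  obtain ⟨Ψ, ⟨u⟩, -⟩ := he
  let j : ∀ s : (AlgSp.yon S).obj T ⟶ W,
      BasedFunctor.comp (AlgSt.toOverCat T) (BasedFunctor.comp (sheet e s) Ψ) ≅ AlgSt.ofSpMap s := fun s =>
    (Stk.restr (BasedFunctor.comp (BasedFunctor.comp (AlgSt.toOverCat T) (AlgSt.ofOverCat T))
      (AlgSt.ofSpMap s)) _).mapIso u
  exact ofSpMap_inj ((j t).symm ≪≫ (Stk.restr (AlgSt.toOverCat T) _).mapIso ((postB _ Ψ).mapIso i) ≪≫ j t').hom

/-- endofunctors of the category are endomorphisms of the space -/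
theorem exists_endo (σ : 𝒳 ⥤ᵇ 𝒳) : ∃ s : W ⟶ W,
    ∀ {T : Over S} (t : (AlgSp.yon S).obj T ⟶ W), Nonempty (sheet e (t ≫ s) ≅ BasedFunctor.comp (sheet e t) σ) := by
  obtain ⟨Ψ, -, ⟨c⟩⟩ := he
  obtain ⟨i⟩ := spHom_iso (BasedFunctor.comp (BasedFunctor.comp e σ) Ψ)
  refine ⟨spHom (BasedFunctor.comp (BasedFunctor.comp e σ) Ψ), fun {T} t => ⟨?_⟩⟩
  exact (postB _ e).mapIso ((Stk.restr (BasedFunctor.comp (AlgSt.ofOverCat T) (AlgSt.ofSpMap t)) _).mapIso i.symm) ≪≫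
    (Stk.restr (BasedFunctor.comp (sheet e t) σ) _).mapIso c

end Sheet

/-- the functor is a restriction when there is an arrow between the universal objects -/
theorem exists_iso_overMap (h : IsFibGrpd 𝒳.p) {T' T : Over S} (φ : T' ⟶ T) (F : overCat T ⥤ᵇ 𝒳)
    (G : overCat T' ⥤ᵇ 𝒳) (b : G.obj (Over.mk (𝟙 T')) ⟶ F.obj (Over.mk (𝟙 T)))
    (hb : 𝒳.p.map b = eqToHom (G.w_obj _) ≫ φ ≫ eqToHom (F.w_obj (Over.mk (𝟙 T))).symm) :
    Nonempty (G ≅ BasedFunctor.comp (AlgSt.overMap φ) F) := by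
  let c : (BasedFunctor.comp (AlgSt.overMap φ) F).obj (Over.mk (𝟙 T')) ⟶ F.obj (Over.mk (𝟙 T)) :=
    F.map (Over.homMk φ (by show φ ≫ 𝟙 T = 𝟙 T' ≫ φ; simp))
  obtain ⟨χ, ⟨hχ, -⟩, -⟩ := fibGrpd_fac h c b
    (eqToHom ((G.w_obj _).trans ((BasedFunctor.comp (AlgSt.overMap φ) F).w_obj (Over.mk (𝟙 T'))).symm)) (by
      rw [hb]
      show _ ≫ 𝒳.p.map (F.map _) = _
      rw [based_map F, eqToHom_trans_assoc]
      rfl)
  have hv : 𝒳.p.IsHomLift (𝟙 T') χ := vert_change 𝒳.p _ (vert_of_map_eq 𝒳.p hχ) (G.w_obj _)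
  have := fibGrpd_isIso_vert h (R := T') χ
  exact ⟨(yoneda_iso h _ _ (asIso χ) hv).choose⟩

/-- a restriction has an arrow between the universal objects -/
theorem exists_arrow {T' T : Over S} (φ : T' ⟶ T) (F : overCat T ⥤ᵇ 𝒳) (G : overCat T' ⥤ᵇ 𝒳)
    (i : G ≅ BasedFunctor.comp (AlgSt.overMap φ) F) :
    ∃ b : G.obj (Over.mk (𝟙 T')) ⟶ F.obj (Over.mk (𝟙 T)),
      𝒳.p.map b = eqToHom (G.w_obj _) ≫ φ ≫ eqToHom (F.w_obj (Over.mk (𝟙 T))).symm := by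
  let c : (BasedFunctor.comp (AlgSt.overMap φ) F).obj (Over.mk (𝟙 T')) ⟶ F.obj (Over.mk (𝟙 T)) :=
    F.map (Over.homMk φ (by show φ ≫ 𝟙 T = 𝟙 T' ≫ φ; simp))
  refine ⟨i.hom.toNatTrans.app (Over.mk (𝟙 T')) ≫ c, ?_⟩
  rw [𝒳.p.map_comp, based_app_map]
  show _ ≫ 𝒳.p.map (F.map _) = _
  rw [based_map F, eqToHom_trans_assoc]
  rfl

variable {U : Over S} {a : overCat U ⥤ᵇ 𝒵} {G : Type u}

/-- a coordinate of a family of fibre power objects -/
def crdOf {T : Over S} (F : overCat T ⥤ᵇ pw a G) (k : G) : T ⟶ U :=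
  (exists_overMap_iso (BasedFunctor.comp F (pwEval a G k))).choose

theorem crdOf_spec {T : Over S} (F : overCat T ⥤ᵇ pw a G) (k : G) :
    Nonempty (BasedFunctor.comp F (pwEval a G k) ≅ AlgSt.overMap (crdOf F k)) :=
  (exists_overMap_iso (BasedFunctor.comp F (pwEval a G k))).choose_spec

theorem crdOf_congr {T : Over S} {F F' : overCat T ⥤ᵇ pw a G} (i : F ≅ F') (k : G) : crdOf F k = crdOf F' k := by
  obtain ⟨j⟩ := crdOf_spec F k
  obtain ⟨j'⟩ := crdOf_spec F' k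
  exact overMap_inj (j.symm ≪≫ (postB _ (pwEval a G k)).mapIso i ≪≫ j')

theorem crdOf_restr {T' T : Over S} (φ : T' ⟶ T) (F : overCat T ⥤ᵇ pw a G) (k : G) :
    crdOf (BasedFunctor.comp (AlgSt.overMap φ) F) k = φ ≫ crdOf F k := by
  obtain ⟨j⟩ := crdOf_spec (BasedFunctor.comp (AlgSt.overMap φ) F) k
  obtain ⟨j'⟩ := crdOf_spec F k
  obtain ⟨l⟩ := overMap_comp φ (crdOf F k)
  exact overMap_inj (j.symm ≪≫ (Stk.restr (AlgSt.overMap φ) _).mapIso j' ≪≫ l)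

theorem crdOf_reindex {T : Over S} (F : overCat T ⥤ᵇ pw a G) (π : G → G) (k : G) :
    crdOf (BasedFunctor.comp F (pwReindex a G π)) k = crdOf F (π k) := by
  obtain ⟨j⟩ := crdOf_spec (BasedFunctor.comp F (pwReindex a G π)) k
  obtain ⟨j'⟩ := crdOf_spec F (π k)
  exact overMap_inj (j.symm ≪≫ j')

theorem crdOf_of_classifying {T : Over S} (F : overCat T ⥤ᵇ pw a G) (k : G) (c : PWObj a G)
    (i : F.obj (Over.mk (𝟙 T)) ≅ c) (φ : T ⟶ U) (hc : c.crd k = Over.mk φ)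
    (hi : (pw a G).p.IsHomLift (𝟙 T) i.hom) : crdOf F k = φ := by
  obtain ⟨j⟩ := crdOf_spec F k
  obtain ⟨v, -, -⟩ := (vert_iff (pw a G).p i.hom).1 hi
  let b : (AlgSt.overMap (crdOf F k)).obj (Over.mk (𝟙 T)) ⟶ (AlgSt.overMap φ).obj (Over.mk (𝟙 T)) :=
    j.inv.toNatTrans.app _ ≫ i.hom.crd k ≫ eqToHom hc ≫ Over.homMk (𝟙 T) (by show 𝟙 T ≫ 𝟙 T ≫ φ = φ; simp)
  have hb : (overCat U).p.map b = 𝟙 T := by
    have h1 : (pw a G).p.map i.hom = eqToHom (eq_of_vert _ i.hom hi) := by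
      obtain ⟨-, h', hφ⟩ := (vert_iff (pw a G).p i.hom).1 hi
      exact hφ
    simp only [b, Functor.map_comp, based_app_map, eqToHom_map]
    rw [show (overCat U).p.map (i.hom.crd k) = _ from PWObj.map_crd i.hom k, show 𝒵.p.map i.hom.pt = _ from h1]
    show _ ≫ _ ≫ _ ≫ 𝟙 T = _
    simp
    rfl
  have := Over.w b
  rw [show b.left = 𝟙 T from hb] at this
  have e1 : (𝟙 T ≫ 𝟙 T ≫ φ : T ⟶ U) = 𝟙 T ≫ crdOf F k := this
  simpa using e1.symm

end Groth.Agent.Desc19b.HensSp
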