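import Groth.Agent.Desc19b.HensSp.Global
import Groth.Agent.Stk19b.Gerbe.GlueSigma
import Groth.Agent.Desc19b.HensSp.GerbeSection

/-!
Henselian points of algebraic stacks lift to affine smooth charts.
-/

set_option autoImplicit false
set_option backward.isDefEq.respectTransparency false
set_option backward.isDefEq.respectTransparency.types false

universe u

open CategoryTheory CategoryTheory.Limits AlgebraicGeometry Opposite FibCat
open Groth.Agent.Stk19 Groth.Agent.Desc19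

noncomputable section

namespace Groth.Agent.Desc19b.HensSp

variable {S : Scheme.{u}} {𝒵 : AlgSt.Cat S}

theorem sheet_yon {T V : Over S} (g : T ⟶ V) (p : overCat V ⥤ᵇ 𝒵) :
    BasedFunctor.comp (BasedFunctor.comp (AlgSt.ofOverCat T) (AlgSt.ofSpMap ((AlgSp.yon S).map g)))
      (BasedFunctor.comp (AlgSt.toOverCat V) p) = BasedFunctor.comp (AlgSt.overMap g) p := rfl

/-- points over a henselian local ring lift along a chart through the closed point -/
theorem exists_chart_lift_henselian {V : Over S} (p : overCat V ⥤ᵇ 𝒵)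
    (hp : AlgSt.RepByAlgSpWith (AlgSp.LocP @Smooth) p)
    (R : Type u) [CommRing R] [HenselianLocalRing R] (str : Spec (CommRingCat.of R) ⟶ S)
    (z : overCat (Over.mk str) ⥤ᵇ 𝒵)
    (v : Over.mk (Spec.map (CommRingCat.ofHom (IsLocalRing.residue R)) ≫ str) ⟶ V)
    (hv : Nonempty (BasedFunctor.comp (AlgSt.overMap v) p ≅ BasedFunctor.comp (AlgSt.overMap (clIncl str)) z)) :
    ∃ g : Over.mk str ⟶ V, Nonempty (BasedFunctor.comp (AlgSt.overMap g) p ≅ z) := by
  obtain ⟨z', -, ⟨i⟩⟩ := exists_lift_stack ⟨_, AlgSp.IsAlgSpace.yon_obj V⟩ (BasedFunctor.comp (AlgSt.toOverCat V) p)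
    (with_equiv_comp (isEquivOver_toOverCat V) hp) R str z ((AlgSp.yon S).map v) hv
  obtain ⟨g, rfl⟩ := (AlgSp.yon S).map_surjective z'
  exact ⟨g, ⟨i⟩⟩

/-- an affine smooth chart through a point over a henselian local ring -/
theorem exists_affine_chart_lift (h𝒵 : AlgSt.IsAlgStack Scheme.fppfPrecoverage 𝒵)
    (R : Type u) [CommRing R] [HenselianLocalRing R] (str : Spec (CommRingCat.of R) ⟶ S)
    (z : overCat (Over.mk str) ⥤ᵇ 𝒵) :
    ∃ (Z : Over S) (_ : IsAffine Z.left) (p : overCat Z ⥤ᵇ 𝒵) (g : Over.mk str ⟶ Z),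
      AlgSt.RepByAlgSpWith (AlgSp.LocP @Smooth) p ∧
        Nonempty (BasedFunctor.comp (AlgSt.overMap g) p ≅ z) := by
  obtain ⟨ι, V, p, hV, hp, hlift⟩ := exists_smooth_charts h𝒵
  obtain ⟨i, v, hv⟩ := hlift _ _ (BasedFunctor.comp (AlgSt.overMap (clIncl str)) z)
  obtain ⟨g, hg⟩ := exists_chart_lift_henselian (p i) (hp i) R str z v hv
  exact ⟨V i, hV i, p i, g, hp i, hg⟩


open Groth.Agent.AlgSpLib in
/-- smooth charts combine to a smooth chart on their disjoint union -/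
theorem with_smooth_sigma (h𝒵 : AlgSt.IsAlgStack Scheme.fppfPrecoverage 𝒵) {ι : Type u} (V : ι → Over S)
    (G : overCat (sigmaOver V) ⥤ᵇ 𝒵)
    (hG : ∀ i, AlgSt.RepByAlgSpWith (AlgSp.LocP @Smooth) (BasedFunctor.comp (AlgSt.overMap (sigmaOverι V i)) G)) :
    AlgSt.RepByAlgSpWith (AlgSp.LocP @Smooth) G := by
  have hR := respSrc_locP (S := S) etLocal_smooth
  have hy : AlgSt.RepByAlgSp1 G := repByAlgSp1_of_diag h𝒵.isStack.1 h𝒵.diag (repByAlgSp_overCat _) G
  let x : ∀ i, overCat (V i) ⥤ᵇ overCat (sigmaOver V) := fun i => AlgSt.overMap (sigmaOverι V i)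
  have hx : ∀ i, AlgSt.RepByAlgSpWith (AlgSp.LocP @Smooth) (x i) := fun i => by
    have : IsOpenImmersion (sigmaOverι V i).left := inferInstanceAs (IsOpenImmersion (Sigma.ι (fun k => (V k).left) i))
    exact with_overMap etLocal_smooth _ (inferInstance : Smooth (sigmaOverι V i).left)
  intro U t
  obtain ⟨W, eW, heW⟩ := hy U t
  let z := BasedFunctor.comp eW (fpSnd t G)
  choose F a e he hi using fun i => exists_rep_map (isFibGrpd_overCat _) (isFibGrpd_overCat _)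
    (repByAlgSp1_of_with (hx i)) W z
  have : (BasedFunctor.id (overCat (sigmaOver V))).toFunctor.Full := id_full _
  have : (BasedFunctor.id (overCat (sigmaOver V))).toFunctor.Faithful := id_faithful _
  have hV : ∀ i, AlgSp.LocP @Smooth ((a i).hom ≫ AlgSt.spMapOfOver (BasedFunctor.comp eW (fpFst t G))) := fun i => by
    obtain ⟨j⟩ := hi i
    let E : fp z (x i) ⥤ᵇ fp (fpSnd t G) (x i) :=
      fpMap (F' := fpSnd t G) (G' := x i) eW (BasedFunctor.id _) (BasedFunctor.id _) (Iso.refl _) (Iso.refl _)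
    have hE : IsEquivOver E := isEquivOver_fpMap _ _ _ _ _ heW (isEquivOver_id _)
    let e' := BasedFunctor.comp (e i) (BasedFunctor.comp E (fpCompFactor t (x i) G))
    have he' : IsEquivOver e' := isEquivOver_comp (he i) (isEquivOver_comp hE (isEquivOver_fpCompFactor t (x i) G))
    obtain ⟨F₀, e₀, he₀, hp⟩ := hG i U t
    have hV : AlgSp.LocP @Smooth (AlgSt.spMapOfOver (BasedFunctor.comp e' (fpFst t (BasedFunctor.comp (x i) G)))) :=
      repWith_any hR he₀ hp (F' := F i) e' he'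
    rw [show BasedFunctor.comp e' (fpFst t (BasedFunctor.comp (x i) G)) =
      BasedFunctor.comp (BasedFunctor.comp (e i) (fpFst z (x i))) (BasedFunctor.comp eW (fpFst t G)) from rfl,
      spMapOfOver_comp, spHom_congr j.hom, spHom_ofSpMap] at hV
    exact hV
  refine ⟨W, eW, heW, (isLocalOnSource_smooth_smooth (fun i => (F i).obj) (fun i => (a i).hom) W.property
    (fun i => (F i).property) ⟨fun i => rep_locP etLocal_smooth (hx i) z (he i) (hi i).some, fun w => ?_⟩ _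
    (AlgSp.IsAlgSpace.yon_obj U)).2 hV⟩
  obtain ⟨r, hr⟩ := (ofChart_id_bijective (sigmaOver V)).2 (AlgSt.Points.map z (stPt w))
  obtain ⟨i, r', hr'⟩ : ∃ (i : ι) (r' : ↥(V i).left), (sigmaOverι V i).left r' = r := by
    obtain ⟨i, r', h⟩ := (sigmaOpenCover fun i => (V i).left).exists_eq r
    exact ⟨i, r', h⟩
  obtain ⟨q, hq, -⟩ := exists_points_fp (isFibGrpd_overCat _) (isFibGrpd_overCat _)
    (fibGrpd_of_repByAlgSp (repByAlgSp_ofSp W)) (x i) z (stPt w) (AlgSt.Points.ofChart (BasedFunctor.id _) r') (by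
      rw [← hr, ← hr']
      exact (ofChart_overMap (sigmaOverι V i) (BasedFunctor.id _) r').symm)
  obtain ⟨q', rfl⟩ := (points_bijective_of_equiv (he i)).2 q
  obtain ⟨v, rfl⟩ := stPt_bijective.2 q'
  obtain ⟨j⟩ := hi i
  rw [← points_map_comp, points_map_congr j, map_stPt] at hq
  exact ⟨i, v, stPt_bijective.1 hq⟩

/-- a separated smooth chart through all points over quotients of a henselian local ring -/
theorem exists_separated_chart (h𝒵 : AlgSt.IsAlgStack Scheme.fppfPrecoverage 𝒵)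
    (R : Type u) [CommRing R] [HenselianLocalRing R] (str : Spec (CommRingCat.of R) ⟶ S) :
    ∃ (Z : Over S) (p : overCat Z ⥤ᵇ 𝒵), IsSeparated Z.hom ∧ AlgSt.RepByAlgSpWith (AlgSp.LocP @Smooth) p ∧
      ∀ (a : Ideal R) (x : overCat (Over.mk (Spec.map (CommRingCat.ofHom (Ideal.Quotient.mk a)) ≫ str)) ⥤ᵇ 𝒵),
        ∃ g : Over.mk (Spec.map (CommRingCat.ofHom (Ideal.Quotient.mk a)) ≫ str) ⟶ Z,
          Nonempty (BasedFunctor.comp (AlgSt.overMap g) p ≅ x) := by
  obtain ⟨ι, V, p, hV, hp, hlift⟩ := exists_smooth_charts h𝒵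
  obtain ⟨G, hG⟩ := Stk19b.Gerbe.exists_glue_sigma V h𝒵.isStack p
  refine ⟨AlgSpLib.sigmaOver V, G, isSeparated_sigmaDesc _ fun i => inferInstance,
    with_smooth_sigma h𝒵 V G fun i => repByAlgSpWith_of_iso (hG i).some.symm (hp i), fun a x => ?_⟩
  rcases eq_or_ne a ⊤ with rfl | ha
  · have : Subsingleton (R ⧸ (⊤ : Ideal R)) := Ideal.Quotient.subsingleton_iff.2 rfl
    have he : IsEmpty ↥(Over.mk (Spec.map (CommRingCat.ofHom (Ideal.Quotient.mk (⊤ : Ideal R))) ≫ str)).left :=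
      inferInstanceAs (IsEmpty (PrimeSpectrum (R ⧸ (⊤ : Ideal R))))
    let T := Over.mk (Spec.map (CommRingCat.ofHom (Ideal.Quotient.mk (⊤ : Ideal R))) ≫ str)
    let g : T ⟶ AlgSpLib.sigmaOver V := Over.homMk (isInitialOfIsEmpty.to _) (isInitialOfIsEmpty.hom_ext _ _)
    have e : 𝒵.p.obj ((BasedFunctor.comp (AlgSt.overMap g) G).obj (Over.mk (𝟙 T))) = 𝒵.p.obj (x.obj (Over.mk (𝟙 T))) :=
      ((BasedFunctor.comp (AlgSt.overMap g) G).w_obj (Over.mk (𝟙 T))).trans (x.w_obj (Over.mk (𝟙 T))).symm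
    obtain ⟨χ, hχ, -⟩ := Stk19b.Gerbe.existsUnique_vert_of_isEmpty h𝒵.isStack (by
      rw [(BasedFunctor.comp (AlgSt.overMap g) G).w_obj (Over.mk (𝟙 T))]; exact he) e
    have hv : 𝒵.p.IsHomLift (𝟙 T) χ :=
      vert_change 𝒵.p _ (vert_of_map_eq 𝒵.p hχ) ((BasedFunctor.comp (AlgSt.overMap g) G).w_obj (Over.mk (𝟙 T)))
    have := fibGrpd_isIso_vert h𝒵.isStack.1 (R := T) χ
    exact ⟨g, ⟨(yoneda_iso h𝒵.isStack.1 _ _ (asIso χ) hv).choose⟩⟩
  · have := henselianLocalRing_quotient a ha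
    obtain ⟨i, v, hv⟩ := hlift _ _ (BasedFunctor.comp (AlgSt.overMap (clIncl _)) x)
    obtain ⟨g, ⟨ig⟩⟩ := exists_chart_lift_henselian (p i) (hp i) _ _ x v hv
    obtain ⟨l⟩ := overMap_comp g (AlgSpLib.sigmaOverι V i)
    exact ⟨g ≫ AlgSpLib.sigmaOverι V i, ⟨(postB _ G).mapIso l.symm ≪≫
      (Stk.restr (AlgSt.overMap g) _).mapIso (hG i).some ≪≫ ig⟩⟩

/-- charts of stacks smooth over the base are smooth schemes -/
theorem smooth_chart_hom (h𝒵 : AlgSt.IsAlgStack Scheme.fppfPrecoverage 𝒵)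
    (hsm : AlgSt.LocQ (AlgSp.LocP @Smooth) (FibCat.toSelf 𝒵)) {V : Over S} (p : overCat V ⥤ᵇ 𝒵)
    (hp : AlgSt.RepByAlgSpWith (AlgSp.LocP @Smooth) p) : Smooth V.hom := by
  obtain ⟨U₀, x₀, hx₀, hxs, hxf⟩ := exists_chart_of_locQ AlgSpLib.etLocal_smooth le_rfl hsm
  have : Smooth U₀.hom := smooth_hom_of_with _ hxf
  obtain ⟨T, q, r, -, hr, hq, hsurj⟩ := exists_chart_fp h𝒵.isStack.1 p (repByAlgSp1_of_with hx₀)
  have : Smooth r.left := hr AlgSpLib.etLocal_smooth hx₀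
  have : Smooth q.left := hq AlgSpLib.etLocal_smooth hp
  have : Surjective r.left := ⟨fun t => by
    obtain ⟨s, hs'⟩ := ofChart_surjective h𝒵.isStack.1 hxs (AlgSt.Points.ofChart p t)
    obtain ⟨w, -, rfl⟩ := hsurj s t hs'
    exact ⟨w, rfl⟩⟩
  refine AlgSpLib.smooth_of_comp_fppf r.left V.hom ?_
  rw [Over.w r, ← Over.w q]
  exact (inferInstance : Smooth (q.left ≫ U₀.hom))

/-- points over closed subschemes of smooth stacks over henselian local rings lift -/
theorem exists_quotient_point_lift (R : Type u) [CommRing R] [HenselianLocalRing R]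
    (𝒴 : AlgSt.Cat (Spec (CommRingCat.of R))) (h𝒴 : AlgSt.IsAlgStack Scheme.fppfPrecoverage 𝒴)
    (hsm : AlgSt.LocQ (AlgSp.LocP @Smooth) (FibCat.toSelf 𝒴)) (a : Ideal R) (ha : a ≠ ⊤)
    (z₀ : overCat (Over.mk (Spec.map (CommRingCat.ofHom (Ideal.Quotient.mk a)))) ⥤ᵇ 𝒴) :
    ∃ z : overCat (Over.mk (𝟙 (Spec (CommRingCat.of R)))) ⥤ᵇ 𝒴,
      Nonempty (BasedFunctor.comp (AlgSt.overMap (quotIncl R a)) z ≅ z₀) := by
  have := henselianLocalRing_quotient a ha
  obtain ⟨ι, V, p, hV, hp, hlift⟩ := exists_smooth_charts h𝒴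
  obtain ⟨i, v, hv⟩ := hlift _ _ (BasedFunctor.comp (AlgSt.overMap (clIncl _)) z₀)
  obtain ⟨g, ⟨ig⟩⟩ := exists_chart_lift_henselian (p i) (hp i) _ _ z₀ v hv
  have : Smooth (V i).hom := smooth_chart_hom h𝒴 hsm (p i) (hp i)
  have := hV i
  obtain ⟨s, hs⟩ := exists_lift_affine R a ha (V i) g
  obtain ⟨l⟩ := overMap_comp (quotIncl R a) s
  exact ⟨BasedFunctor.comp (AlgSt.overMap s) (p i),
    ⟨(postB _ (p i)).mapIso (l ≪≫ eqToIso (by rw [hs])) ≪≫ ig⟩⟩

end Groth.Agent.Desc19b.HensSp
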